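import Mathlib
import Cfsg.Prelude.Def_Steinberg
import Cfsg.Agent.Lib.helper8.ChevSt31
import Cfsg.Agent.Lib.helper8.ChevSt29

set_option autoImplicit false
set_option linter.unusedSectionVars false

/-!
The Steinberg group over a finite field is finite: it maps onto the Chevalley group with kernel
contained in the (finite) abstract torus.
-/

namespace Cfsg.Agent.Lib.helper7.Sg

open Cfsg.Lie Cfsg.Lie.ChevalleyDatum Cfsg.Agent.Lib.helper8

universe u

variable {K : Type u} [Field K] [Finite K]

theorem st_finite (D : ChevalleyDatum)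
    (hD : D ∈ [chevG2, chevB2, chevD4, chevF4, chevE6, chevE7, chevE8]) :
    Finite (D.SteinbergGroup K) := by
  classical
  have hB := h8base_all.{u} D hD
  have hC := h8commAll.{u} D hD
  have hL := h8all_all D hD
  have hWS := h8w0s_all D hD
  have hN2 := h8n2_all D hD
  have hgen : ∀ (r : ℕ) (t : K), r < D.nroots →
      ((h8stTheta D hB hC (D.stGen K r t) : GL D.Idx K) : Matrix D.Idx D.Idx K) = D.x K r t :=
    fun r t _ => h8stTheta_gen D hB hC r t
  have hP := h8stg_pair D hB (h8stTheta D hB hC) hgen
  have hCr := h8stg_relC (K := K) D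
  set θ := h8stTheta (K := K) D hB hC with hθ
  -- the kernel is finite
  let f : (Fin D.rank → K) → D.SteinbergGroup K := fun c =>
    h8TorS D (D.stGen K) (fun i => if h : i < D.rank then c ⟨i, h⟩ else 1)
  have hsub : (θ.ker : Set (D.SteinbergGroup K)) ⊆ Set.range f := by
    intro z hz
    have hzT := (h8st_ker_le_diag D hD _ hgen).1 hz
    rw [← h8stg_HS] at hzT
    obtain ⟨c, _, rfl⟩ := h8pair_HS_eq_TorS hP hL hWS hN2 hCr z hzT
    refine ⟨fun i => c i.val, ?_⟩
    show h8TorS D (D.stGen K) _ = h8TorS D (D.stGen K) c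
    apply h8TorS_congr
    intro i hi
    rw [dif_pos hi]
  haveI : Finite θ.ker := (Set.finite_range f).subset hsub
  haveI : Finite ↥(D.group K) := inferInstance
  letI : Fintype ↥(D.group K) := Fintype.ofFinite _
  letI : Fintype θ.ker := Fintype.ofFinite _
  letI := Group.fintypeOfKerOfCodom θ
  infer_instance

end Cfsg.Agent.Lib.helper7.Sg
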