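import Mathlib
import Cfsg.Prelude.Def_ChevB2
import Cfsg.Agent.Lib.helper8.ChevUC17

set_option autoImplicit false
set_option linter.unusedSectionVars false

/-!
Central extensions of the Steinberg cover of type `B₂` over the field with three elements:
the setting, the canonical lifts of the short root elements.

Roots of `chevB2`: `0, 3, 4, 7` are long, `1, 2, 5, 6` are short, `negIdx r = 7 - r`.
The torus element `k` inverts the short root subgroups and centralises the long ones; no element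
of the group moves a long root subgroup by a scalar other than one.
-/

namespace Cfsg.Agent.Lib.helper7.Sg.B23

open Cfsg.Lie Cfsg.Lie.ChevalleyDatum Cfsg.Agent.Lib.helper8

universe u v w

variable {K : Type u} [Field K] {Γ : Type v} [Group Γ] {E : Type w} [Group E]

/-- short roots of `chevB2` -/
def IsSh (r : ℕ) : Prop := r = 1 ∨ r = 2 ∨ r = 5 ∨ r = 6

/-- long roots of `chevB2` -/
def IsLg (r : ℕ) : Prop := r = 0 ∨ r = 3 ∨ r = 4 ∨ r = 7

instance (r : ℕ) : Decidable (IsSh r) := by unfold IsSh; infer_instance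
instance (r : ℕ) : Decidable (IsLg r) := by unfold IsLg; infer_instance

lemma IsSh.lt {r : ℕ} (h : IsSh r) : r < chevB2.nroots := by
  have : chevB2.nroots = 8 := rfl
  rcases h with rfl | rfl | rfl | rfl <;> omega

lemma IsLg.lt {r : ℕ} (h : IsLg r) : r < chevB2.nroots := by
  have : chevB2.nroots = 8 := rfl
  rcases h with rfl | rfl | rfl | rfl <;> omega

/-- any two lifts of `g` and `g'` commute -/
def LC (ρ : E →* Γ) (g g' : Γ) : Prop := ∀ x y : E, ρ x = g → ρ y = g' → x * y = y * x

lemma LC.symm {ρ : E →* Γ} {g g' : Γ} (h : LC ρ g g') : LC ρ g' g :=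
  fun x y hx hy => (h y x hy hx).symm

/-- The standing hypotheses: a central extension `ρ` of a group with a system of root elements of
type `B₂` over a field with three elements, and an element `k` inverting the short root subgroups
and centralising the long ones. -/
structure Ctx (ρ : E →* Γ) (X : ℕ → K → Γ) (k : Γ) : Prop where
  ce : H8CE ρ
  sys : H8Sys chevB2 X
  three : (3 : K) = 0
  cases3 : ∀ t : K, t = 0 ∨ t = 1 ∨ t = -1
  ks : ∀ s, IsSh s → ∀ t : K, k * X s t * k⁻¹ = X s (-t)
  kl : ∀ l, IsLg l → ∀ t : K, k * X l t * k⁻¹ = X l t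

variable {ρ : E →* Γ} {X : ℕ → K → Γ} {k : Γ}

namespace Ctx

variable (c : Ctx ρ X k)
include c

lemma two_ne : (2 : K) ≠ 0 := by
  intro h2
  have h3 := c.three
  have : (1 : K) = 0 := by
    have e : (1 : K) = 3 - 2 := by norm_num
    rw [e, h3, h2, sub_zero]
  exact one_ne_zero this

lemma neg_one_ne : (-1 : K) ≠ 1 := by
  intro h
  apply c.two_ne
  have : (2 : K) = 1 - (-1) := by norm_num
  rw [this, h, sub_self]

lemma neg_add_neg (t : K) : -t + -t = t := by
  have h3 := c.three
  have : -t + -t = t - 3 * t := by ring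
  rw [this, h3, zero_mul, sub_zero]

lemma add_add_self (t : K) : t + t + t = 0 := by
  have h3 := c.three
  have : t + t + t = 3 * t := by ring
  rw [this, h3, zero_mul]

lemma cases4 (a b : K) : a = 0 ∨ b = 0 ∨ a = b ∨ a = -b := by
  rcases c.cases3 a with rfl | rfl | rfl
  · exact Or.inl rfl
  · rcases c.cases3 b with rfl | rfl | rfl
    · exact Or.inr (Or.inl rfl)
    · exact Or.inr (Or.inr (Or.inl rfl))
    · exact Or.inr (Or.inr (Or.inr (by rw [neg_neg])))
  · rcases c.cases3 b with rfl | rfl | rfl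
    · exact Or.inr (Or.inl rfl)
    · exact Or.inr (Or.inr (Or.inr rfl))
    · exact Or.inr (Or.inr (Or.inl rfl))

/-- lifts of two elements of one root subgroup commute -/
lemma self (r : ℕ) (hr : r < chevB2.nroots) (a b : K) : LC ρ (X r a) (X r b) := by
  intro x y hx hy
  have h := c.ce
  have hS := c.sys
  rcases c.cases4 a b with ha | hb | hab | hab
  · rw [ha, h8sys_zero hS r hr] at hx
    exact h.central x hx y
  · rw [hb, h8sys_zero hS r hr] at hy
    exact (h.central y hy x).symm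
  · have hz : ρ (x⁻¹ * y) = 1 := by rw [map_mul, map_inv, hx, hy, hab, inv_mul_cancel]
    have hzc := h.central _ hz x
    set z := x⁻¹ * y with hzdef
    have ey : y = x * z := by rw [hzdef]; group
    rw [ey, mul_assoc, hzc]
  · have hz : ρ (x * y) = 1 := by
      rw [map_mul, hx, hy, hab, ← h8sys_inv hS r hr, inv_mul_cancel]
    have hzc := h.central _ hz x
    set z := x * y with hzdef
    have ey : y = x⁻¹ * z := by rw [hzdef]; group
    rw [ey, mul_assoc, hzc]
    group

/-- lifts of elements of a short and a long root subgroup which commute, commute -/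
lemma lc_sl {s l : ℕ} (hs : IsSh s) (hl : IsLg l) (hct : chevB2.commTerms s l = [])
    (h1 : l ≠ s) (h2 : l ≠ chevB2.negIdx.getD s 0) (a b : K) : LC ρ (X s a) (X l b) := by
  intro x y hx hy
  have hcomm : ∀ t u : K, X s t * X l u = X l u * X s t := by
    intro t u
    have := c.sys.comm s hs.lt l hl.lt h1 h2 t u
    unfold ChevalleyDatum.commWord at this
    rw [hct, List.map_nil, h8wX_nil, mul_one] at this
    exact this.symm
  exact h8uc_comm_pair c.ce c.sys s l hs.lt hcomm k (-1) c.neg_one_ne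
    (fun t => by rw [c.ks s hs t, neg_one_mul]) (fun u => c.kl l hl u) a b x y hx hy

end Ctx

/-- the canonical lift of a short root element: the commutator of lifts of `k` and `X s t` -/
noncomputable def Ysh (h : H8CE ρ) (X : ℕ → K → Γ) (k : Γ) (s : ℕ) (t : K) : E :=
  h.lift k * h.lift (X s t) * (h.lift k)⁻¹ * (h.lift (X s t))⁻¹

namespace Ctx

variable (c : Ctx ρ X k)
include c

lemma ysh_eq {s : ℕ} (t : K) (a b : E) (ha : ρ a = k) (hb : ρ b = X s t) :
    a * b * a⁻¹ * b⁻¹ = Ysh c.ce X k s t := by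
  unfold Ysh
  apply c.ce.comm_eq
  · rw [ha, c.ce.lift_spec]
  · rw [hb, c.ce.lift_spec]

lemma ysh_im {s : ℕ} (hs : IsSh s) (t : K) : ρ (Ysh c.ce X k s t) = X s t := by
  unfold Ysh
  rw [map_mul, map_mul, map_mul, map_inv, map_inv, c.ce.lift_spec, c.ce.lift_spec, c.ks s hs,
    h8sys_inv c.sys s hs.lt, c.sys.add s hs.lt, c.neg_add_neg]

lemma ysh_add {s : ℕ} (hs : IsSh s) (t u : K) :
    Ysh c.ce X k s t * Ysh c.ce X k s u = Ysh c.ce X k s (t + u) := by
  set A := c.ce.lift k with hA
  set B₁ := c.ce.lift (X s t) with hB₁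
  set B₂ := c.ce.lift (X s u) with hB₂
  have e1 : Ysh c.ce X k s (t + u) = A * (B₁ * B₂) * A⁻¹ * (B₁ * B₂)⁻¹ := by
    symm
    apply c.ysh_eq
    · rw [hA, c.ce.lift_spec]
    · rw [map_mul, hB₁, hB₂, c.ce.lift_spec, c.ce.lift_spec, c.sys.add s hs.lt]
  have e2 : A * (B₁ * B₂) * A⁻¹ * (B₁ * B₂)⁻¹ =
      (A * B₁ * A⁻¹ * B₁⁻¹) * (B₁ * (A * B₂ * A⁻¹ * B₂⁻¹) * B₁⁻¹) := by group
  have e3 : A * B₁ * A⁻¹ * B₁⁻¹ = Ysh c.ce X k s t := rfl
  have e4 : A * B₂ * A⁻¹ * B₂⁻¹ = Ysh c.ce X k s u := rfl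
  rw [e1, e2, e3, e4]
  congr 1
  have := c.self s hs.lt t u B₁ (Ysh c.ce X k s u) (c.ce.lift_spec _) (c.ysh_im hs u)
  rw [this, mul_inv_cancel_right]

lemma ysh_zero {s : ℕ} (hs : IsSh s) : Ysh c.ce X k s (0 : K) = 1 := by
  have := c.ysh_add hs 0 0
  rw [add_zero] at this
  exact mul_eq_left.mp this

lemma ysh_inv {s : ℕ} (hs : IsSh s) (t : K) : (Ysh c.ce X k s t)⁻¹ = Ysh c.ce X k s (-t) := by
  rw [inv_eq_iff_mul_eq_one, c.ysh_add hs, add_neg_cancel, c.ysh_zero hs]

/-- every lift of `k` inverts the canonical lifts of the short root elements -/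
lemma ysh_tor {s : ℕ} (hs : IsSh s) (g : E) (hg : ρ g = k) (t : K) :
    g * Ysh c.ce X k s t * g⁻¹ = Ysh c.ce X k s (-t) := by
  set A := c.ce.lift k with hA
  set B := c.ce.lift (X s t) with hB
  have e0 : Ysh c.ce X k s t = A * B * A⁻¹ * B⁻¹ := rfl
  have e1 : g * (A * B * A⁻¹ * B⁻¹) * g⁻¹ =
      (g * A * g⁻¹) * (g * B * g⁻¹) * (g * A * g⁻¹)⁻¹ * (g * B * g⁻¹)⁻¹ := by group
  rw [e0, e1]
  apply c.ysh_eq
  · rw [map_mul, map_mul, map_inv, hg, hA, c.ce.lift_spec, mul_inv_cancel_right]
  · rw [map_mul, map_mul, map_inv, hg, hB, c.ce.lift_spec, c.ks s hs]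

/-- the canonical lift of a short root element commutes with every lift of an element which
commutes with all lifts of the elements of the root subgroup -/
lemma lc_ysh_left {s : ℕ} (hs : IsSh s) {g : Γ} (h : ∀ a : K, LC ρ (X s a) g) (t : K) (y : E)
    (hy : ρ y = g) : Ysh c.ce X k s t * y = y * Ysh c.ce X k s t :=
  h t _ y (c.ysh_im hs t) hy

end Ctx

end Cfsg.Agent.Lib.helper7.Sg.B23
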