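import Mathlib
import Cfsg.Agent.Lib.helper7.Sg.B23a

set_option autoImplicit false
set_option linter.unusedSectionVars false

/-!
Type `B₂` over the field with three elements: the canonical lifts of the long root elements, as
commutators of canonical lifts of short root elements, and the relations between the lifts for
a pair of orthogonal short roots.
-/

namespace Cfsg.Agent.Lib.helper7.Sg.B23

open Cfsg.Lie Cfsg.Lie.ChevalleyDatum Cfsg.Agent.Lib.helper8

universe u v w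

variable {K : Type u} [Field K] {Γ : Type v} [Group Γ] {E : Type w} [Group E]
variable {ρ : E →* Γ} {X : ℕ → K → Γ} {k : Γ}

lemma IsSh.neg {s : ℕ} (h : IsSh s) : IsSh (chevB2.negIdx.getD s 0) := by
  rcases h with rfl | rfl | rfl | rfl <;> decide

lemma IsLg.neg {s : ℕ} (h : IsLg s) : IsLg (chevB2.negIdx.getD s 0) := by
  rcases h with rfl | rfl | rfl | rfl <;> decide

lemma IsSh.ne_lg {s l : ℕ} (hs : IsSh s) (hl : IsLg l) : l ≠ s := by
  rcases hs with rfl | rfl | rfl | rfl <;> rcases hl with rfl | rfl | rfl | rfl <;> decide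

/-- A pair `(s, p)` of orthogonal short roots with sum the long root `q`; `e = ±2` is the constant
of the commutator formula. -/
structure SP (s p q : ℕ) (e : ℤ) : Prop where
  hs : IsSh s
  hp : IsSh p
  hq : IsLg q
  ne1 : p ≠ s
  ne2 : p ≠ chevB2.negIdx.getD s 0
  ct : chevB2.commTerms s p = [(q, e, 1, 1)]
  e2 : e = 2 ∨ e = -2
  ctsq : chevB2.commTerms s q = []
  ctpq : chevB2.commTerms p q = []

/-- the commutator `(Y s t * Y p u)⁻¹ * (Y p u * Y s t)` of canonical lifts -/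
noncomputable def Cm (h : H8CE ρ) (X : ℕ → K → Γ) (k : Γ) (s p : ℕ) (t u : K) : E :=
  (Ysh h X k s t * Ysh h X k p u)⁻¹ * (Ysh h X k p u * Ysh h X k s t)

/-- the canonical lift of the long root element `X q v`, `q = s + p` -/
noncomputable def Ylg (h : H8CE ρ) (X : ℕ → K → Γ) (k : Γ) (s p : ℕ) (e : ℤ) (v : K) : E :=
  Cm h X k s p 1 (-(e : K) * v)

namespace Ctx

variable (c : Ctx ρ X k) {s p q : ℕ} {e : ℤ} (sp : SP s p q e)
include c sp

lemma esq : ((e : ℤ) : K) * (e : K) = 1 := by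
  have h3 := c.three
  have h4 : (4 : K) = 1 := by
    have : (4 : K) = 3 + 1 := by norm_num
    rw [this, h3, zero_add]
  rcases sp.e2 with rfl | rfl
  · push_cast
    rw [← h4]; norm_num
  · push_cast
    rw [← h4]; norm_num

lemma cm_im (t u : K) : ρ (Cm c.ce X k s p t u) = X q ((e : K) * (-t) * u) := by
  have hrel := c.sys.comm s sp.hs.lt p sp.hp.lt sp.ne1 sp.ne2 t u
  unfold ChevalleyDatum.commWord at hrel
  rw [sp.ct] at hrel
  simp only [List.map_cons, List.map_nil, h8wX_cons, h8wX_nil, mul_one, pow_one] at hrel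
  unfold Cm
  rw [map_mul, map_inv, map_mul, map_mul, c.ysh_im sp.hs, c.ysh_im sp.hp, hrel]
  group

lemma lc_sq (a b : K) : LC ρ (X s a) (X q b) :=
  c.lc_sl sp.hs sp.hq sp.ctsq (sp.hs.ne_lg sp.hq)
    (fun h => (sp.hs.neg).ne_lg sp.hq h) a b

lemma lc_pq (a b : K) : LC ρ (X p a) (X q b) :=
  c.lc_sl sp.hp sp.hq sp.ctpq (sp.hp.ne_lg sp.hq)
    (fun h => (sp.hp.neg).ne_lg sp.hq h) a b

/-- the commutator commutes with the canonical lifts of `X s a` -/
lemma cm_comm_s (t u a : K) :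
    Cm c.ce X k s p t u * Ysh c.ce X k s a = Ysh c.ce X k s a * Cm c.ce X k s p t u :=
  (c.lc_sq sp a _ _ _ (c.ysh_im sp.hs a) (c.cm_im sp t u)).symm

lemma cm_comm_p (t u a : K) :
    Cm c.ce X k s p t u * Ysh c.ce X k p a = Ysh c.ce X k p a * Cm c.ce X k s p t u :=
  (c.lc_pq sp a _ _ _ (c.ysh_im sp.hp a) (c.cm_im sp t u)).symm

lemma cm_comm_cm (t u t' u' : K) :
    Cm c.ce X k s p t u * Cm c.ce X k s p t' u' = Cm c.ce X k s p t' u' * Cm c.ce X k s p t u :=
  c.self q sp.hq.lt _ _ _ _ (c.cm_im sp t u) (c.cm_im sp t' u')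

lemma cm_add_right (t u u' : K) :
    Cm c.ce X k s p t (u + u') = Cm c.ce X k s p t u * Cm c.ce X k s p t u' := by
  have hc := c.cm_comm_p sp t u u'
  unfold Cm at hc ⊢
  rw [← c.ysh_add sp.hp u u']
  set S := Ysh c.ce X k s t
  set P := Ysh c.ce X k p u
  set P' := Ysh c.ce X k p u'
  have hc' : (S * P)⁻¹ * (P * S) * P'⁻¹ = P'⁻¹ * ((S * P)⁻¹ * (P * S)) := by
    rw [eq_inv_mul_iff_mul_eq, ← mul_assoc, ← hc, mul_inv_cancel_right]
  have e1 : (S * (P * P'))⁻¹ * (P * P' * S) =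
      P'⁻¹ * ((S * P)⁻¹ * (P * S)) * (S⁻¹ * P' * S) := by group
  have e2 : (S * P)⁻¹ * (P * S) * ((S * P')⁻¹ * (P' * S)) =
      ((S * P)⁻¹ * (P * S) * P'⁻¹) * (S⁻¹ * P' * S) := by group
  rw [e1, e2, hc']

lemma cm_add_left (t t' u : K) :
    Cm c.ce X k s p (t + t') u = Cm c.ce X k s p t u * Cm c.ce X k s p t' u := by
  have hc := c.cm_comm_s sp t u t'
  have hcc := c.cm_comm_cm sp t u t' u
  rw [hcc]
  unfold Cm at hc ⊢
  rw [← c.ysh_add sp.hs t t']
  set S := Ysh c.ce X k s t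
  set S' := Ysh c.ce X k s t'
  set P := Ysh c.ce X k p u
  have e1 : (S * S' * P)⁻¹ * (P * (S * S')) =
      P⁻¹ * S'⁻¹ * P * (((S * P)⁻¹ * (P * S)) * S') := by group
  have e2 : (S' * P)⁻¹ * (P * S') * ((S * P)⁻¹ * (P * S)) =
      P⁻¹ * S'⁻¹ * P * (S' * ((S * P)⁻¹ * (P * S))) := by group
  rw [e1, e2, hc]

lemma cm_zero_left (u : K) : Cm c.ce X k s p 0 u = 1 := by
  unfold Cm
  rw [c.ysh_zero sp.hs]
  group

lemma cm_zero_right (t : K) : Cm c.ce X k s p t 0 = 1 := by
  unfold Cm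
  rw [c.ysh_zero sp.hp]
  group

lemma cm_neg_left (t u : K) : Cm c.ce X k s p (-t) u = (Cm c.ce X k s p t u)⁻¹ := by
  rw [eq_inv_iff_mul_eq_one, ← c.cm_add_left sp, neg_add_cancel, c.cm_zero_left sp]

lemma cm_neg_right (t u : K) : Cm c.ce X k s p t (-u) = (Cm c.ce X k s p t u)⁻¹ := by
  rw [eq_inv_iff_mul_eq_one, ← c.cm_add_right sp, neg_add_cancel, c.cm_zero_right sp]

/-- the commutator depends on the product of its two parameters only -/
lemma cm_eq_one_mul (t u : K) : Cm c.ce X k s p t u = Cm c.ce X k s p 1 (t * u) := by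
  rcases c.cases3 t with rfl | rfl | rfl
  · rw [zero_mul, c.cm_zero_left sp, c.cm_zero_right sp]
  · rw [one_mul]
  · rw [c.cm_neg_left sp, neg_one_mul, c.cm_neg_right sp]

lemma ylg_im (v : K) : ρ (Ylg c.ce X k s p e v) = X q v := by
  unfold Ylg
  rw [c.cm_im sp]
  congr 1
  have := c.esq sp
  have e1 : (e : K) * (-1) * (-(e : K) * v) = ((e : K) * (e : K)) * v := by ring
  rw [e1, this, one_mul]

lemma ylg_add (v v' : K) :
    Ylg c.ce X k s p e v * Ylg c.ce X k s p e v' = Ylg c.ce X k s p e (v + v') := by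
  unfold Ylg
  rw [← c.cm_add_right sp]
  congr 1
  ring

lemma ylg_zero : Ylg c.ce X k s p e (0 : K) = 1 := by
  unfold Ylg
  rw [mul_zero, c.cm_zero_right sp]

lemma ylg_inv (v : K) : (Ylg c.ce X k s p e v)⁻¹ = Ylg c.ce X k s p e (-v) := by
  rw [inv_eq_iff_mul_eq_one, c.ylg_add sp, add_neg_cancel, c.ylg_zero sp]

lemma cm_eq_ylg (t u : K) :
    Cm c.ce X k s p t u = Ylg c.ce X k s p e ((e : K) * (-t) * u) := by
  unfold Ylg
  rw [c.cm_eq_one_mul sp t u]
  congr 1
  have := c.esq sp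
  have e1 : -(e : K) * ((e : K) * (-t) * u) = ((e : K) * (e : K)) * (t * u) := by ring
  rw [e1, this, one_mul]

/-- relation (R2) for the pair `(s, p)` -/
lemma rel_sp (t u : K) :
    Ysh c.ce X k p u * Ysh c.ce X k s t =
      Ysh c.ce X k s t * Ysh c.ce X k p u * Ylg c.ce X k s p e ((e : K) * (-t) * u) := by
  rw [← c.cm_eq_ylg sp]
  unfold Cm
  group

/-- relation (R2) for the pair `(p, s)` -/
lemma rel_ps (t u : K) :
    Ysh c.ce X k s t * Ysh c.ce X k p u =
      Ysh c.ce X k p u * Ysh c.ce X k s t * Ylg c.ce X k s p e (-(e : K) * (-u) * t) := by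
  have e1 : -(e : K) * (-u) * t = -((e : K) * (-t) * u) := by ring
  rw [e1, ← c.ylg_inv sp, ← c.cm_eq_ylg sp]
  unfold Cm
  group

/-- every lift of `k` centralises the canonical lifts of the long root elements -/
lemma ylg_tor (g : E) (hg : ρ g = k) (v : K) :
    g * Ylg c.ce X k s p e v * g⁻¹ = Ylg c.ce X k s p e v := by
  unfold Ylg
  set u := -(e : K) * v
  have e1 : g * Cm c.ce X k s p 1 u * g⁻¹ = Cm c.ce X k s p (-1) (-u) := by
    unfold Cm
    rw [← c.ysh_tor sp.hs g hg, ← c.ysh_tor sp.hp g hg]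
    group
  rw [e1, c.cm_neg_left sp, c.cm_neg_right sp, inv_inv]

/-- the canonical lifts of the long root elements commute with every lift of an element whose
lifts commute with the lifts of the long root elements -/
lemma ylg_comm {g : Γ} (h : ∀ a : K, LC ρ (X q a) g) (v : K) (y : E) (hy : ρ y = g) :
    Ylg c.ce X k s p e v * y = y * Ylg c.ce X k s p e v :=
  h v _ y (c.ylg_im sp v) hy

end Ctx

end Cfsg.Agent.Lib.helper7.Sg.B23
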