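import Mathlib
import Cfsg.Agent.Lib.helper7.Sg.B23b

set_option autoImplicit false
set_option linter.unusedSectionVars false

/-!
Type `B₂` over the field with three elements: the relation (R2) between the canonical lifts for a
long root `l` and a short root `s` whose sum is a root.
-/

namespace Cfsg.Agent.Lib.helper7.Sg.B23

open Cfsg.Lie Cfsg.Lie.ChevalleyDatum Cfsg.Agent.Lib.helper8

universe u v w

variable {K : Type u} [Field K] {Γ : Type v} [Group Γ] {E : Type w} [Group E]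
variable {ρ : E →* Γ} {X : ℕ → K → Γ} {k : Γ}

/-- A long root `l` and a short root `s` with `p = l + s` (short) and `q = l + 2s` (long);
`e1, e2` are the constants of the commutator formula of `(l, s)` and `e3` the one of `(s, p)`. -/
structure LS (l s p q : ℕ) (e1 e2 e3 : ℤ) : Prop where
  hl : IsLg l
  hs : IsSh s
  hp : IsSh p
  hq : IsLg q
  ct : chevB2.commTerms l s = [(p, e1, 1, 1), (q, e2, 1, 2)]
  ctpl : chevB2.commTerms p l = []
  ctsq : chevB2.commTerms s q = []
  ctpq : chevB2.commTerms p q = []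
  id : e1 * e3 = -2 * e2

/-- an additive map into a group -/
lemma comm_of_add {f : K → E} (h : ∀ a b, f a * f b = f (a + b)) (a b : K) :
    f a * f b = f b * f a := by rw [h, h, add_comm]

lemma zero_of_add {f : K → E} (h : ∀ a b, f a * f b = f (a + b)) : f 0 = 1 := by
  have := h 0 0
  rw [add_zero] at this
  exact mul_eq_left.mp this


lemma aux_add {G : Type*} [Group G] (s s' p p' q q' r : G) (h1 : p * s' = s' * p * r)
    (h2 : q * s' = s' * q) (h3 : r * p' = p' * r) (h4 : q * p' = p' * q) :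
    s * (p * q) * (s' * (p' * q')) = (s * s') * ((p * p') * (r * q * q')) := by
  calc s * (p * q) * (s' * (p' * q')) = s * p * (q * s') * (p' * q') := by group
    _ = s * p * (s' * q) * (p' * q') := by rw [h2]
    _ = s * (p * s') * (q * p') * q' := by group
    _ = s * (s' * p * r) * (p' * q) * q' := by rw [h1, h4]
    _ = s * s' * p * (r * p') * q * q' := by group
    _ = s * s' * p * (p' * r) * q * q' := by rw [h3]
    _ = (s * s') * ((p * p') * (r * q * q')) := by group

lemma aux_im {G : Type*} [Group G] (a s w : G) (h : s * a = a * s * w) :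
    (s * w)⁻¹ * (a⁻¹ * s * a) = 1 := by
  rw [mul_assoc a⁻¹, h]
  group

lemma aux_conj {G : Type*} [Group G] (g a s p q : G) :
    g * ((s * (p * q))⁻¹ * (a⁻¹ * s * a)) * g⁻¹ =
      ((g * s * g⁻¹) * ((g * p * g⁻¹) * (g * q * g⁻¹)))⁻¹ *
        ((g * a * g⁻¹)⁻¹ * (g * s * g⁻¹) * (g * a * g⁻¹)) := by
  group

lemma aux_phi {G : Type*} [Group G] (f f' c c' : G) (hc : ∀ g, (f⁻¹ * c) * g = g * (f⁻¹ * c)) :
    (f⁻¹ * c) * (f'⁻¹ * c') = (f * f')⁻¹ * (c * c') := by
  calc (f⁻¹ * c) * (f'⁻¹ * c') = ((f⁻¹ * c) * f'⁻¹) * c' := by group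
    _ = (f'⁻¹ * (f⁻¹ * c)) * c' := by rw [hc]
    _ = (f * f')⁻¹ * (c * c') := by group

namespace Ctx

variable (c : Ctx ρ X k) {l s p q : ℕ} {e1 e2 e3 : ℤ} (ls : LS l s p q e1 e2 e3)
include c ls

/-- relation (R2) for the pair `(l, s)`, for arbitrary equivariant lifts `A` of the elements of
the root subgroup `l` and additive equivariant lifts `Q` of those of `q`, given the relation for the
pair `(s, p)` -/
theorem rel_ls (A Q : K → E)
    (hAim : ∀ t, ρ (A t) = X l t) (hAtor : ∀ g : E, ρ g = k → ∀ t, g * A t * g⁻¹ = A t)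
    (hQim : ∀ v, ρ (Q v) = X q v) (hQadd : ∀ v v', Q v * Q v' = Q (v + v'))
    (hQtor : ∀ g : E, ρ g = k → ∀ v, g * Q v * g⁻¹ = Q v)
    (hrel : ∀ v w : K, Ysh c.ce X k p w * Ysh c.ce X k s v =
      Ysh c.ce X k s v * Ysh c.ce X k p w * Q ((e3 : K) * (-v) * w))
    (t u : K) :
    Ysh c.ce X k s u * A t =
      A t * Ysh c.ce X k s u *
        (Ysh c.ce X k p ((e1 : K) * (-t) * u) * Q ((e2 : K) * (-t) * u ^ 2)) := by
  set a : K := (e1 : K) * (-t) with ha
  set b : K := (e2 : K) * (-t) with hb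
  set S : K → E := fun u => Ysh c.ce X k s u with hS
  set P : K → E := fun w => Ysh c.ce X k p w with hP
  have hSadd : ∀ u u', S u * S u' = S (u + u') := fun u u' => c.ysh_add ls.hs u u'
  have hPadd : ∀ u u', P u * P u' = P (u + u') := fun u u' => c.ysh_add ls.hp u u'
  have hSim : ∀ u, ρ (S u) = X s u := fun u => c.ysh_im ls.hs u
  have hPim : ∀ u, ρ (P u) = X p u := fun u => c.ysh_im ls.hp u
  -- commutation facts
  have lcsq : ∀ x y : K, LC ρ (X s x) (X q y) := fun x y =>
    c.lc_sl ls.hs ls.hq ls.ctsq (ls.hs.ne_lg ls.hq) (fun h => (ls.hs.neg).ne_lg ls.hq h) x y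
  have lcpq : ∀ x y : K, LC ρ (X p x) (X q y) := fun x y =>
    c.lc_sl ls.hp ls.hq ls.ctpq (ls.hp.ne_lg ls.hq) (fun h => (ls.hp.neg).ne_lg ls.hq h) x y
  have hQS : ∀ y x, Q y * S x = S x * Q y := fun y x =>
    (lcsq x y (S x) (Q y) (hSim x) (hQim y)).symm
  have hQP : ∀ y x, Q y * P x = P x * Q y := fun y x =>
    (lcpq x y (P x) (Q y) (hPim x) (hQim y)).symm
  have hQQ : ∀ y y', Q y * Q y' = Q y' * Q y := comm_of_add hQadd
  have hab : ∀ u u' : K, (e3 : K) * (-u') * (a * u) + b * u ^ 2 + b * u' ^ 2 =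
      b * (u + u') ^ 2 := by
    intro u u'
    have hid : ((e1 : ℤ) : K) * (e3 : K) = -2 * (e2 : K) := by
      have := congrArg (fun z : ℤ => (z : K)) ls.id
      simpa using this
    rw [ha, hb]
    linear_combination (t * u * u') * hid
  -- the lift `F u` of the right-hand side is additive
  set F : K → E := fun u => S u * (P (a * u) * Q (b * u ^ 2)) with hF
  have hFadd : ∀ u u', F u * F u' = F (u + u') := by
    intro u u'
    have h1 : P (a * u) * S u' = S u' * P (a * u) * Q ((e3 : K) * (-u') * (a * u)) :=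
      hrel u' (a * u)
    have h2 := hQS (b * u ^ 2) u'
    have h3 := hQP ((e3 : K) * (-u') * (a * u)) (a * u')
    have h4 := hQP (b * u ^ 2) (a * u')
    show S u * (P (a * u) * Q (b * u ^ 2)) * (S u' * (P (a * u') * Q (b * u' ^ 2))) =
      S (u + u') * (P (a * (u + u')) * Q (b * (u + u') ^ 2))
    rw [aux_add _ _ _ _ _ _ _ h1 h2 h3 h4, hSadd, hPadd, hQadd, hQadd, hab, ← mul_add]
  -- the conjugates `c u` of `S u`
  set cj : K → E := fun u => (A t)⁻¹ * S u * A t with hcj
  have hcjadd : ∀ u u', cj u * cj u' = cj (u + u') := by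
    intro u u'
    show (A t)⁻¹ * S u * A t * ((A t)⁻¹ * S u' * A t) = (A t)⁻¹ * S (u + u') * A t
    rw [← hSadd]
    group
  -- the defect
  set φ : K → E := fun u => (F u)⁻¹ * cj u with hφ
  have hne1 : s ≠ l := (ls.hs.ne_lg ls.hl).symm
  have hne2 : s ≠ chevB2.negIdx.getD l 0 := fun h => (ls.hs.ne_lg ls.hl.neg) h.symm
  have hφ1 : ∀ u, ρ (φ u) = 1 := by
    intro u
    have hrel0 := c.sys.comm l ls.hl.lt s ls.hs.lt hne1 hne2 t u
    unfold ChevalleyDatum.commWord at hrel0
    rw [ls.ct] at hrel0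
    simp only [List.map_cons, List.map_nil, h8wX_cons, h8wX_nil, mul_one, pow_one] at hrel0
    show ρ ((S u * (P (a * u) * Q (b * u ^ 2)))⁻¹ * ((A t)⁻¹ * S u * A t)) = 1
    rw [map_mul, map_inv, map_mul, map_mul, map_mul, map_mul, map_inv, hSim, hPim, hQim, hAim]
    exact aux_im _ _ _ hrel0
  have hφc : ∀ u (g : E), φ u * g = g * φ u := fun u g => c.ce.central _ (hφ1 u) g
  have hφadd : ∀ u u', φ u * φ u' = φ (u + u') := by
    intro u u'
    show (F u)⁻¹ * cj u * ((F u')⁻¹ * cj u') = (F (u + u'))⁻¹ * cj (u + u')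
    rw [← hFadd, ← hcjadd]
    exact aux_phi _ _ _ _ (hφc u)
  have hφ0 : φ 0 = 1 := zero_of_add hφadd
  -- the torus
  have hφtor : ∀ u, φ (-u) = φ u := by
    intro u
    set g := c.ce.lift k with hg
    have hgk : ρ g = k := c.ce.lift_spec k
    have e1 : g * φ u * g⁻¹ = φ u := by rw [← hφc u g, mul_inv_cancel_right]
    have e2 : g * φ u * g⁻¹ = φ (-u) := by
      show g * ((S u * (P (a * u) * Q (b * u ^ 2)))⁻¹ * ((A t)⁻¹ * S u * A t)) * g⁻¹ =
        (S (-u) * (P (a * -u) * Q (b * (-u) ^ 2)))⁻¹ * ((A t)⁻¹ * S (-u) * A t)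
      have t1 : S (-u) = g * S u * g⁻¹ := (c.ysh_tor ls.hs g hgk u).symm
      have t2 : P (a * -u) = g * P (a * u) * g⁻¹ := by
        rw [mul_neg]
        exact (c.ysh_tor ls.hp g hgk (a * u)).symm
      have t3 : Q (b * (-u) ^ 2) = g * Q (b * u ^ 2) * g⁻¹ := by
        rw [neg_sq]
        exact (hQtor g hgk _).symm
      have t4 : A t = g * A t * g⁻¹ := (hAtor g hgk t).symm
      rw [t1, t2, t3, aux_conj]
      rw [← t4]
    rw [← e2, e1]
  have hφ2 : ∀ u, φ u * φ u = 1 := by
    intro u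
    nth_rewrite 2 [← hφtor u]
    rw [hφadd, add_neg_cancel, hφ0]
  have hφ3 : ∀ u, φ u * φ u * φ u = 1 := by
    intro u
    rw [hφadd, hφadd, c.add_add_self, hφ0]
  have hφone : φ u = 1 := by
    have := hφ3 u
    rw [hφ2 u, one_mul] at this
    exact this
  -- conclusion
  have hfin : cj u = F u := by
    have : (F u)⁻¹ * cj u = 1 := hφone
    exact (inv_mul_eq_one.mp this).symm
  have : (A t)⁻¹ * S u * A t = S u * (P (a * u) * Q (b * u ^ 2)) := hfin
  calc S u * A t = A t * ((A t)⁻¹ * S u * A t) := by group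
    _ = A t * S u * (P (a * u) * Q (b * u ^ 2)) := by rw [this]; group

end Ctx

end Cfsg.Agent.Lib.helper7.Sg.B23
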