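import Mathlib
import Cfsg.Agent.Lib.helper7.Sg.B23c

set_option autoImplicit false
set_option linter.unusedSectionVars false

/-!
Type `B₂` over the field with three elements: the relation (R2) for a short root and a long root
in the other order, and the commutation of the lifts of two orthogonal long root subgroups.
-/

namespace Cfsg.Agent.Lib.helper7.Sg.B23

open Cfsg.Lie Cfsg.Lie.ChevalleyDatum Cfsg.Agent.Lib.helper8

universe u v w

variable {K : Type u} [Field K] {Γ : Type v} [Group Γ] {E : Type w} [Group E]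
variable {ρ : E →* Γ} {X : ℕ → K → Γ} {k : Γ}

lemma aux_lq {G : Type*} [Group G] (a s p π κ q0 : G) (h0 : p * s = s * p * q0)
    (h1 : s * a = a * s * (π * κ)) (h2 : p * a = a * p) (h3 : π * p = p * π)
    (h4 : κ * p = p * κ) (h6 : q0 * π = π * q0) (h7 : q0 * κ = κ * q0) : q0 * a = a * q0 := by
  have hq0 : (s * p)⁻¹ * (p * s) = q0 := by rw [h0]; group
  have e1 : a⁻¹ * s * a = s * (π * κ) := by rw [mul_assoc, h1]; group
  have e2 : a⁻¹ * p * a = p := by rw [mul_assoc, h2]; group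
  have e3 : a⁻¹ * ((s * p)⁻¹ * (p * s)) * a =
      (a⁻¹ * s * a * (a⁻¹ * p * a))⁻¹ * (a⁻¹ * p * a * (a⁻¹ * s * a)) := by group
  rw [e1, e2, hq0] at e3
  have e4 : s * (π * κ) * p = s * p * (π * κ) := by
    calc s * (π * κ) * p = s * (π * (κ * p)) := by group
      _ = s * (π * (p * κ)) := by rw [h4]
      _ = s * ((π * p) * κ) := by group
      _ = s * ((p * π) * κ) := by rw [h3]
      _ = s * p * (π * κ) := by group
  have e5 : p * (s * (π * κ)) = s * p * (q0 * (π * κ)) := by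
    rw [← mul_assoc, h0]; group
  have e6 : q0 * (π * κ) = (π * κ) * q0 := by
    rw [← mul_assoc, h6, mul_assoc, h7, mul_assoc]
  rw [e4, e5, e6] at e3
  have e7 : (s * p * (π * κ))⁻¹ * (s * p * (π * κ * q0)) = q0 := by group
  rw [e7] at e3
  calc q0 * a = a * (a⁻¹ * q0 * a) := by group
    _ = a * q0 := by rw [e3]

lemma aux_sl {G : Type*} [Group G] (a s π κ π' κ' : G) (h : s * a = a * s * (π * κ))
    (hπ : π * π' = 1) (hκ : κ * κ' = 1) (hc : π' * κ' = κ' * π') :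
    a * s = s * a * (π' * κ') := by
  have e1 : (π * κ)⁻¹ = π' * κ' := by
    rw [hc, inv_eq_iff_mul_eq_one]
    calc π * κ * (κ' * π') = π * (κ * κ') * π' := by group
      _ = 1 := by rw [hκ, mul_one, hπ]
  rw [← e1, h]
  group

namespace Ctx

variable (c : Ctx ρ X k) {l s p q : ℕ} {e1 e2 e3 : ℤ} (ls : LS l s p q e1 e2 e3)
include c ls

/-- relation (R2) for the pair `(s, l)` -/
theorem rel_sl (A Q : K → E)
    (hAim : ∀ t, ρ (A t) = X l t) (hAtor : ∀ g : E, ρ g = k → ∀ t, g * A t * g⁻¹ = A t)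
    (hQim : ∀ v, ρ (Q v) = X q v) (hQadd : ∀ v v', Q v * Q v' = Q (v + v'))
    (hQtor : ∀ g : E, ρ g = k → ∀ v, g * Q v * g⁻¹ = Q v)
    (hrel : ∀ v w : K, Ysh c.ce X k p w * Ysh c.ce X k s v =
      Ysh c.ce X k s v * Ysh c.ce X k p w * Q ((e3 : K) * (-v) * w))
    (t u : K) :
    A t * Ysh c.ce X k s u =
      Ysh c.ce X k s u * A t *
        (Ysh c.ce X k p (-(e1 : K) * (-u) * t) * Q ((e2 : K) * (-u) ^ 2 * t)) := by
  have h := c.rel_ls ls A Q hAim hAtor hQim hQadd hQtor hrel t u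
  have lcpq : ∀ x y : K, LC ρ (X p x) (X q y) := fun x y =>
    c.lc_sl ls.hp ls.hq ls.ctpq (ls.hp.ne_lg ls.hq) (fun h => (ls.hp.neg).ne_lg ls.hq h) x y
  apply aux_sl _ _ _ _ _ _ h
  · rw [c.ysh_add ls.hp]
    have : (e1 : K) * (-t) * u + -(e1 : K) * (-u) * t = 0 := by ring
    rw [this, c.ysh_zero ls.hp]
  · rw [hQadd]
    have : (e2 : K) * (-t) * u ^ 2 + (e2 : K) * (-u) ^ 2 * t = 0 := by ring
    rw [this, zero_of_add hQadd]
  · exact lcpq _ _ _ _ (c.ysh_im ls.hp _) (hQim _)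

/-- the lifts of the elements of the two orthogonal long root subgroups `l` and `q` commute -/
theorem lc_lq (A Q : K → E)
    (hAim : ∀ t, ρ (A t) = X l t) (hAtor : ∀ g : E, ρ g = k → ∀ t, g * A t * g⁻¹ = A t)
    (hQim : ∀ v, ρ (Q v) = X q v) (hQadd : ∀ v v', Q v * Q v' = Q (v + v'))
    (hQtor : ∀ g : E, ρ g = k → ∀ v, g * Q v * g⁻¹ = Q v)
    (hrel : ∀ v w : K, Ysh c.ce X k p w * Ysh c.ce X k s v =
      Ysh c.ce X k s v * Ysh c.ce X k p w * Q ((e3 : K) * (-v) * w))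
    (he3 : e3 = 2 ∨ e3 = -2) (a b : K) : LC ρ (X l a) (X q b) := by
  have hee : ((e3 : ℤ) : K) * (e3 : K) = 1 := by
    have h3 := c.three
    have h4 : (4 : K) = 1 := by
      have : (4 : K) = 3 + 1 := by norm_num
      rw [this, h3, zero_add]
    rcases he3 with rfl | rfl
    · push_cast
      rw [← h4]; norm_num
    · push_cast
      rw [← h4]; norm_num
  have lcpq : ∀ x y : K, LC ρ (X p x) (X q y) := fun x y =>
    c.lc_sl ls.hp ls.hq ls.ctpq (ls.hp.ne_lg ls.hq) (fun h => (ls.hp.neg).ne_lg ls.hq h) x y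
  have lcpl : ∀ x y : K, LC ρ (X p x) (X l y) := fun x y =>
    c.lc_sl ls.hp ls.hl ls.ctpl (ls.hp.ne_lg ls.hl) (fun h => (ls.hp.neg).ne_lg ls.hl h) x y
  -- the special lifts commute
  have key : Q b * A a = A a * Q b := by
    have hb : b = (e3 : K) * (-(-1)) * ((e3 : K) * b) := by
      rw [neg_neg, mul_one, ← mul_assoc, hee, one_mul]
    rw [hb]
    set w : K := (e3 : K) * b with hw
    exact aux_lq (A a) (Ysh c.ce X k s (-1)) (Ysh c.ce X k p w)
      (Ysh c.ce X k p ((e1 : K) * (-a) * (-1))) (Q ((e2 : K) * (-a) * (-1) ^ 2))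
      (Q ((e3 : K) * (-(-1)) * w)) (hrel (-1) w)
      (c.rel_ls ls A Q hAim hAtor hQim hQadd hQtor hrel a (-1))
      (lcpl _ _ _ _ (c.ysh_im ls.hp _) (hAim _))
      (comm_of_add (fun x y => c.ysh_add ls.hp x y) _ _)
      (lcpq _ _ _ _ (c.ysh_im ls.hp _) (hQim _)).symm
      (lcpq _ _ _ _ (c.ysh_im ls.hp _) (hQim _)).symm
      (comm_of_add hQadd _ _)
  intro x y hx hy
  have h1 := c.ce.comm_eq (a := x) (a' := A a) (b := y) (b' := Q b)
    (by rw [hx, hAim]) (by rw [hy, hQim])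
  have h2 : A a * Q b * (A a)⁻¹ * (Q b)⁻¹ = 1 := by rw [← key]; group
  rw [h2] at h1
  calc x * y = (x * y * x⁻¹ * y⁻¹) * (y * x) := by group
    _ = y * x := by rw [h1, one_mul]

end Ctx

end Cfsg.Agent.Lib.helper7.Sg.B23
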