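import Mathlib
import Cfsg.Agent.Lib.helper7.Sg.B23d

set_option autoImplicit false
set_option linter.unusedSectionVars false
set_option linter.unusedVariables false
set_option linter.unusedSimpArgs false

/-!
Type `B₂` over the field with three elements: the canonical lifts of all the root elements form a
system of root elements (generated case analysis over the table of `chevB2`).
-/

namespace Cfsg.Agent.Lib.helper7.Sg.B23

open Cfsg.Lie Cfsg.Lie.ChevalleyDatum Cfsg.Agent.Lib.helper8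

universe u v w

variable {K : Type u} [Field K] {Γ : Type v} [Group Γ] {E : Type w} [Group E]
variable {ρ : E →* Γ} {X : ℕ → K → Γ} {k : Γ}

lemma sp0 : SP 1 2 0 2 :=
  ⟨by decide, by decide, by decide, by decide, by decide, by decide, Or.inl rfl, by decide, by decide⟩

lemma sp3 : SP 1 5 3 (-2) :=
  ⟨by decide, by decide, by decide, by decide, by decide, by decide, Or.inr rfl, by decide, by decide⟩

lemma sp4 : SP 2 6 4 (-2) :=
  ⟨by decide, by decide, by decide, by decide, by decide, by decide, Or.inr rfl, by decide, by decide⟩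

lemma sp7 : SP 5 6 7 2 :=
  ⟨by decide, by decide, by decide, by decide, by decide, by decide, Or.inl rfl, by decide, by decide⟩

lemma ls05 : LS 0 5 1 3 1 (-1) 2 :=
  ⟨by decide, by decide, by decide, by decide, by decide, by decide, by decide, by decide, by decide⟩

lemma ls06 : LS 0 6 2 4 (-1) 1 2 :=
  ⟨by decide, by decide, by decide, by decide, by decide, by decide, by decide, by decide, by decide⟩

lemma ls32 : LS 3 2 1 0 (-1) (-1) (-2) :=
  ⟨by decide, by decide, by decide, by decide, by decide, by decide, by decide, by decide, by decide⟩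

lemma ls36 : LS 3 6 5 7 1 1 (-2) :=
  ⟨by decide, by decide, by decide, by decide, by decide, by decide, by decide, by decide, by decide⟩

lemma ls41 : LS 4 1 2 0 (-1) 1 2 :=
  ⟨by decide, by decide, by decide, by decide, by decide, by decide, by decide, by decide, by decide⟩

lemma ls45 : LS 4 5 6 7 1 (-1) 2 :=
  ⟨by decide, by decide, by decide, by decide, by decide, by decide, by decide, by decide, by decide⟩

lemma ls71 : LS 7 1 5 3 1 1 (-2) :=
  ⟨by decide, by decide, by decide, by decide, by decide, by decide, by decide, by decide, by decide⟩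

lemma ls72 : LS 7 2 6 4 (-1) (-1) (-2) :=
  ⟨by decide, by decide, by decide, by decide, by decide, by decide, by decide, by decide, by decide⟩

/-- the canonical lifts of all the root elements -/
noncomputable def Yall (h : H8CE ρ) (X : ℕ → K → Γ) (k : Γ) (r : ℕ) (t : K) : E :=
  match r with
  | 0 => Ylg h X k 1 2 2 t
  | 1 => Ysh h X k 1 t
  | 2 => Ysh h X k 2 t
  | 3 => Ylg h X k 1 5 (-2) t
  | 4 => Ylg h X k 2 6 (-2) t
  | 5 => Ysh h X k 5 t
  | 6 => Ysh h X k 6 t
  | 7 => Ylg h X k 5 6 2 t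
  | _ => 1

lemma yall_oob (h : H8CE ρ) (X : ℕ → K → Γ) (k : Γ) (r : ℕ) (hr : 8 ≤ r) (t : K) :
    Yall h X k r t = 1 := by
  obtain ⟨m, rfl⟩ : ∃ m, r = m + 8 := ⟨r - 8, by omega⟩
  rfl

namespace Ctx

variable (c : Ctx ρ X k)
include c

lemma rel_ps' {s p q : ℕ} {e : ℤ} (sp : SP s p q e) (e' : ℤ) (he : e' = -e) (t u : K) :
    Ysh c.ce X k s t * Ysh c.ce X k p u =
      Ysh c.ce X k p u * Ysh c.ce X k s t * Ylg c.ce X k s p e ((e' : K) * (-u) * t) := by
  subst he
  rw [Int.cast_neg]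
  exact c.rel_ps sp t u

theorem rel_sl' {l s p q : ℕ} {e1 e2 e3 : ℤ} (ls : LS l s p q e1 e2 e3) (e1' : ℤ)
    (he : e1' = -e1) (A Q : K → E)
    (hAim : ∀ t, ρ (A t) = X l t) (hAtor : ∀ g : E, ρ g = k → ∀ t, g * A t * g⁻¹ = A t)
    (hQim : ∀ v, ρ (Q v) = X q v) (hQadd : ∀ v v', Q v * Q v' = Q (v + v'))
    (hQtor : ∀ g : E, ρ g = k → ∀ v, g * Q v * g⁻¹ = Q v)
    (hrel : ∀ v w : K, Ysh c.ce X k p w * Ysh c.ce X k s v =
      Ysh c.ce X k s v * Ysh c.ce X k p w * Q ((e3 : K) * (-v) * w))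
    (t u : K) :
    A u * Ysh c.ce X k s t =
      Ysh c.ce X k s t * A u *
        (Ysh c.ce X k p ((e1' : K) * (-t) * u) * Q ((e2 : K) * (-t) ^ 2 * u)) := by
  subst he
  rw [Int.cast_neg]
  exact c.rel_sl ls A Q hAim hAtor hQim hQadd hQtor hrel u t

lemma yall_im (r : ℕ) (hr : r < 8) (t : K) : ρ (Yall c.ce X k r t) = X r t := by
  interval_cases r
  · exact c.ylg_im sp0 t
  · exact c.ysh_im (s := 1) (by decide) t
  · exact c.ysh_im (s := 2) (by decide) t
  · exact c.ylg_im sp3 t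
  · exact c.ylg_im sp4 t
  · exact c.ysh_im (s := 5) (by decide) t
  · exact c.ysh_im (s := 6) (by decide) t
  · exact c.ylg_im sp7 t

lemma yall_add (r : ℕ) (hr : r < 8) (t u : K) :
    Yall c.ce X k r t * Yall c.ce X k r u = Yall c.ce X k r (t + u) := by
  interval_cases r
  · exact c.ylg_add sp0 t u
  · exact c.ysh_add (s := 1) (by decide) t u
  · exact c.ysh_add (s := 2) (by decide) t u
  · exact c.ylg_add sp3 t u
  · exact c.ylg_add sp4 t u
  · exact c.ysh_add (s := 5) (by decide) t u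
  · exact c.ysh_add (s := 6) (by decide) t u
  · exact c.ylg_add sp7 t u

lemma comm_0_1 (t u : K) :
    Yall c.ce X k 1 u * Yall c.ce X k 0 t =
      Yall c.ce X k 0 t * Yall c.ce X k 1 u * h8wX (Yall c.ce X k) (chevB2.commWord K 0 1 t u) := by
  have hct : chevB2.commTerms 0 1 = [] := by decide
  unfold ChevalleyDatum.commWord
  rw [hct]
  simp only [List.map_cons, List.map_nil, h8wX_cons, h8wX_nil, mul_one, pow_one]
  exact c.lc_sl (s := 1) (l := 0) (by decide) (by decide) (by decide) (by decide) (by decide) u t _ _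
    (c.yall_im 1 (by decide) u) (c.yall_im 0 (by decide) t)

lemma comm_0_2 (t u : K) :
    Yall c.ce X k 2 u * Yall c.ce X k 0 t =
      Yall c.ce X k 0 t * Yall c.ce X k 2 u * h8wX (Yall c.ce X k) (chevB2.commWord K 0 2 t u) := by
  have hct : chevB2.commTerms 0 2 = [] := by decide
  unfold ChevalleyDatum.commWord
  rw [hct]
  simp only [List.map_cons, List.map_nil, h8wX_cons, h8wX_nil, mul_one, pow_one]
  exact c.lc_sl (s := 2) (l := 0) (by decide) (by decide) (by decide) (by decide) (by decide) u t _ _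
    (c.yall_im 2 (by decide) u) (c.yall_im 0 (by decide) t)

lemma comm_0_3 (t u : K) :
    Yall c.ce X k 3 u * Yall c.ce X k 0 t =
      Yall c.ce X k 0 t * Yall c.ce X k 3 u * h8wX (Yall c.ce X k) (chevB2.commWord K 0 3 t u) := by
  have hct : chevB2.commTerms 0 3 = [] := by decide
  unfold ChevalleyDatum.commWord
  rw [hct]
  simp only [List.map_cons, List.map_nil, h8wX_cons, h8wX_nil, mul_one, pow_one]
  exact (c.lc_lq ls05 _ _ (c.ylg_im sp0) (c.ylg_tor sp0) (c.ylg_im sp3) (c.ylg_add sp3) (c.ylg_tor sp3)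
    (fun v w => c.rel_ps' sp3 2 (by decide) w v) (Or.inl rfl) t u _ _
    (c.yall_im 0 (by decide) t) (c.yall_im 3 (by decide) u)).symm

lemma comm_0_4 (t u : K) :
    Yall c.ce X k 4 u * Yall c.ce X k 0 t =
      Yall c.ce X k 0 t * Yall c.ce X k 4 u * h8wX (Yall c.ce X k) (chevB2.commWord K 0 4 t u) := by
  have hct : chevB2.commTerms 0 4 = [] := by decide
  unfold ChevalleyDatum.commWord
  rw [hct]
  simp only [List.map_cons, List.map_nil, h8wX_cons, h8wX_nil, mul_one, pow_one]
  exact (c.lc_lq ls06 _ _ (c.ylg_im sp0) (c.ylg_tor sp0) (c.ylg_im sp4) (c.ylg_add sp4) (c.ylg_tor sp4)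
    (fun v w => c.rel_ps' sp4 2 (by decide) w v) (Or.inl rfl) t u _ _
    (c.yall_im 0 (by decide) t) (c.yall_im 4 (by decide) u)).symm

lemma comm_0_5 (t u : K) :
    Yall c.ce X k 5 u * Yall c.ce X k 0 t =
      Yall c.ce X k 0 t * Yall c.ce X k 5 u * h8wX (Yall c.ce X k) (chevB2.commWord K 0 5 t u) := by
  have hct : chevB2.commTerms 0 5 = [(1, 1, 1, 1), (3, -1, 1, 2)] := by decide
  unfold ChevalleyDatum.commWord
  rw [hct]
  simp only [List.map_cons, List.map_nil, h8wX_cons, h8wX_nil, mul_one, pow_one]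
  exact c.rel_ls ls05 _ _ (c.ylg_im sp0) (c.ylg_tor sp0) (c.ylg_im sp3) (c.ylg_add sp3) (c.ylg_tor sp3)
    (fun v w => c.rel_ps' sp3 2 (by decide) w v) t u

lemma comm_0_6 (t u : K) :
    Yall c.ce X k 6 u * Yall c.ce X k 0 t =
      Yall c.ce X k 0 t * Yall c.ce X k 6 u * h8wX (Yall c.ce X k) (chevB2.commWord K 0 6 t u) := by
  have hct : chevB2.commTerms 0 6 = [(2, -1, 1, 1), (4, 1, 1, 2)] := by decide
  unfold ChevalleyDatum.commWord
  rw [hct]
  simp only [List.map_cons, List.map_nil, h8wX_cons, h8wX_nil, mul_one, pow_one]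
  exact c.rel_ls ls06 _ _ (c.ylg_im sp0) (c.ylg_tor sp0) (c.ylg_im sp4) (c.ylg_add sp4) (c.ylg_tor sp4)
    (fun v w => c.rel_ps' sp4 2 (by decide) w v) t u

lemma comm_1_0 (t u : K) :
    Yall c.ce X k 0 u * Yall c.ce X k 1 t =
      Yall c.ce X k 1 t * Yall c.ce X k 0 u * h8wX (Yall c.ce X k) (chevB2.commWord K 1 0 t u) := by
  have hct : chevB2.commTerms 1 0 = [] := by decide
  unfold ChevalleyDatum.commWord
  rw [hct]
  simp only [List.map_cons, List.map_nil, h8wX_cons, h8wX_nil, mul_one, pow_one]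
  exact (c.lc_sl (s := 1) (l := 0) (by decide) (by decide) hct (by decide) (by decide) t u _ _
    (c.yall_im 1 (by decide) t) (c.yall_im 0 (by decide) u)).symm

lemma comm_1_2 (t u : K) :
    Yall c.ce X k 2 u * Yall c.ce X k 1 t =
      Yall c.ce X k 1 t * Yall c.ce X k 2 u * h8wX (Yall c.ce X k) (chevB2.commWord K 1 2 t u) := by
  have hct : chevB2.commTerms 1 2 = [(0, 2, 1, 1)] := by decide
  unfold ChevalleyDatum.commWord
  rw [hct]
  simp only [List.map_cons, List.map_nil, h8wX_cons, h8wX_nil, mul_one, pow_one]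
  exact c.rel_sp sp0 t u

lemma comm_1_3 (t u : K) :
    Yall c.ce X k 3 u * Yall c.ce X k 1 t =
      Yall c.ce X k 1 t * Yall c.ce X k 3 u * h8wX (Yall c.ce X k) (chevB2.commWord K 1 3 t u) := by
  have hct : chevB2.commTerms 1 3 = [] := by decide
  unfold ChevalleyDatum.commWord
  rw [hct]
  simp only [List.map_cons, List.map_nil, h8wX_cons, h8wX_nil, mul_one, pow_one]
  exact (c.lc_sl (s := 1) (l := 3) (by decide) (by decide) hct (by decide) (by decide) t u _ _
    (c.yall_im 1 (by decide) t) (c.yall_im 3 (by decide) u)).symm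

lemma comm_1_4 (t u : K) :
    Yall c.ce X k 4 u * Yall c.ce X k 1 t =
      Yall c.ce X k 1 t * Yall c.ce X k 4 u * h8wX (Yall c.ce X k) (chevB2.commWord K 1 4 t u) := by
  have hct : chevB2.commTerms 1 4 = [(2, 1, 1, 1), (0, 1, 2, 1)] := by decide
  unfold ChevalleyDatum.commWord
  rw [hct]
  simp only [List.map_cons, List.map_nil, h8wX_cons, h8wX_nil, mul_one, pow_one]
  exact c.rel_sl' ls41 1 (by decide) _ _ (c.ylg_im sp4) (c.ylg_tor sp4) (c.ylg_im sp0) (c.ylg_add sp0) (c.ylg_tor sp0)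
    (fun v w => c.rel_sp sp0 v w) t u

lemma comm_1_5 (t u : K) :
    Yall c.ce X k 5 u * Yall c.ce X k 1 t =
      Yall c.ce X k 1 t * Yall c.ce X k 5 u * h8wX (Yall c.ce X k) (chevB2.commWord K 1 5 t u) := by
  have hct : chevB2.commTerms 1 5 = [(3, -2, 1, 1)] := by decide
  unfold ChevalleyDatum.commWord
  rw [hct]
  simp only [List.map_cons, List.map_nil, h8wX_cons, h8wX_nil, mul_one, pow_one]
  exact c.rel_sp sp3 t u

lemma comm_1_7 (t u : K) :
    Yall c.ce X k 7 u * Yall c.ce X k 1 t =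
      Yall c.ce X k 1 t * Yall c.ce X k 7 u * h8wX (Yall c.ce X k) (chevB2.commWord K 1 7 t u) := by
  have hct : chevB2.commTerms 1 7 = [(5, -1, 1, 1), (3, 1, 2, 1)] := by decide
  unfold ChevalleyDatum.commWord
  rw [hct]
  simp only [List.map_cons, List.map_nil, h8wX_cons, h8wX_nil, mul_one, pow_one]
  exact c.rel_sl' ls71 (-1) (by decide) _ _ (c.ylg_im sp7) (c.ylg_tor sp7) (c.ylg_im sp3) (c.ylg_add sp3) (c.ylg_tor sp3)
    (fun v w => c.rel_sp sp3 v w) t u

lemma comm_2_0 (t u : K) :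
    Yall c.ce X k 0 u * Yall c.ce X k 2 t =
      Yall c.ce X k 2 t * Yall c.ce X k 0 u * h8wX (Yall c.ce X k) (chevB2.commWord K 2 0 t u) := by
  have hct : chevB2.commTerms 2 0 = [] := by decide
  unfold ChevalleyDatum.commWord
  rw [hct]
  simp only [List.map_cons, List.map_nil, h8wX_cons, h8wX_nil, mul_one, pow_one]
  exact (c.lc_sl (s := 2) (l := 0) (by decide) (by decide) hct (by decide) (by decide) t u _ _
    (c.yall_im 2 (by decide) t) (c.yall_im 0 (by decide) u)).symm

lemma comm_2_1 (t u : K) :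
    Yall c.ce X k 1 u * Yall c.ce X k 2 t =
      Yall c.ce X k 2 t * Yall c.ce X k 1 u * h8wX (Yall c.ce X k) (chevB2.commWord K 2 1 t u) := by
  have hct : chevB2.commTerms 2 1 = [(0, -2, 1, 1)] := by decide
  unfold ChevalleyDatum.commWord
  rw [hct]
  simp only [List.map_cons, List.map_nil, h8wX_cons, h8wX_nil, mul_one, pow_one]
  exact c.rel_ps' sp0 (-2) (by decide) u t

lemma comm_2_3 (t u : K) :
    Yall c.ce X k 3 u * Yall c.ce X k 2 t =
      Yall c.ce X k 2 t * Yall c.ce X k 3 u * h8wX (Yall c.ce X k) (chevB2.commWord K 2 3 t u) := by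
  have hct : chevB2.commTerms 2 3 = [(1, 1, 1, 1), (0, -1, 2, 1)] := by decide
  unfold ChevalleyDatum.commWord
  rw [hct]
  simp only [List.map_cons, List.map_nil, h8wX_cons, h8wX_nil, mul_one, pow_one]
  exact c.rel_sl' ls32 1 (by decide) _ _ (c.ylg_im sp3) (c.ylg_tor sp3) (c.ylg_im sp0) (c.ylg_add sp0) (c.ylg_tor sp0)
    (fun v w => c.rel_ps' sp0 (-2) (by decide) w v) t u

lemma comm_2_4 (t u : K) :
    Yall c.ce X k 4 u * Yall c.ce X k 2 t =
      Yall c.ce X k 2 t * Yall c.ce X k 4 u * h8wX (Yall c.ce X k) (chevB2.commWord K 2 4 t u) := by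
  have hct : chevB2.commTerms 2 4 = [] := by decide
  unfold ChevalleyDatum.commWord
  rw [hct]
  simp only [List.map_cons, List.map_nil, h8wX_cons, h8wX_nil, mul_one, pow_one]
  exact (c.lc_sl (s := 2) (l := 4) (by decide) (by decide) hct (by decide) (by decide) t u _ _
    (c.yall_im 2 (by decide) t) (c.yall_im 4 (by decide) u)).symm

lemma comm_2_6 (t u : K) :
    Yall c.ce X k 6 u * Yall c.ce X k 2 t =
      Yall c.ce X k 2 t * Yall c.ce X k 6 u * h8wX (Yall c.ce X k) (chevB2.commWord K 2 6 t u) := by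
  have hct : chevB2.commTerms 2 6 = [(4, -2, 1, 1)] := by decide
  unfold ChevalleyDatum.commWord
  rw [hct]
  simp only [List.map_cons, List.map_nil, h8wX_cons, h8wX_nil, mul_one, pow_one]
  exact c.rel_sp sp4 t u

lemma comm_2_7 (t u : K) :
    Yall c.ce X k 7 u * Yall c.ce X k 2 t =
      Yall c.ce X k 2 t * Yall c.ce X k 7 u * h8wX (Yall c.ce X k) (chevB2.commWord K 2 7 t u) := by
  have hct : chevB2.commTerms 2 7 = [(6, 1, 1, 1), (4, -1, 2, 1)] := by decide
  unfold ChevalleyDatum.commWord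
  rw [hct]
  simp only [List.map_cons, List.map_nil, h8wX_cons, h8wX_nil, mul_one, pow_one]
  exact c.rel_sl' ls72 1 (by decide) _ _ (c.ylg_im sp7) (c.ylg_tor sp7) (c.ylg_im sp4) (c.ylg_add sp4) (c.ylg_tor sp4)
    (fun v w => c.rel_sp sp4 v w) t u

lemma comm_3_0 (t u : K) :
    Yall c.ce X k 0 u * Yall c.ce X k 3 t =
      Yall c.ce X k 3 t * Yall c.ce X k 0 u * h8wX (Yall c.ce X k) (chevB2.commWord K 3 0 t u) := by
  have hct : chevB2.commTerms 3 0 = [] := by decide
  unfold ChevalleyDatum.commWord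
  rw [hct]
  simp only [List.map_cons, List.map_nil, h8wX_cons, h8wX_nil, mul_one, pow_one]
  exact (c.lc_lq ls32 _ _ (c.ylg_im sp3) (c.ylg_tor sp3) (c.ylg_im sp0) (c.ylg_add sp0) (c.ylg_tor sp0)
    (fun v w => c.rel_ps' sp0 (-2) (by decide) w v) (Or.inr rfl) t u _ _
    (c.yall_im 3 (by decide) t) (c.yall_im 0 (by decide) u)).symm

lemma comm_3_1 (t u : K) :
    Yall c.ce X k 1 u * Yall c.ce X k 3 t =
      Yall c.ce X k 3 t * Yall c.ce X k 1 u * h8wX (Yall c.ce X k) (chevB2.commWord K 3 1 t u) := by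
  have hct : chevB2.commTerms 3 1 = [] := by decide
  unfold ChevalleyDatum.commWord
  rw [hct]
  simp only [List.map_cons, List.map_nil, h8wX_cons, h8wX_nil, mul_one, pow_one]
  exact c.lc_sl (s := 1) (l := 3) (by decide) (by decide) (by decide) (by decide) (by decide) u t _ _
    (c.yall_im 1 (by decide) u) (c.yall_im 3 (by decide) t)

lemma comm_3_2 (t u : K) :
    Yall c.ce X k 2 u * Yall c.ce X k 3 t =
      Yall c.ce X k 3 t * Yall c.ce X k 2 u * h8wX (Yall c.ce X k) (chevB2.commWord K 3 2 t u) := by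
  have hct : chevB2.commTerms 3 2 = [(1, -1, 1, 1), (0, -1, 1, 2)] := by decide
  unfold ChevalleyDatum.commWord
  rw [hct]
  simp only [List.map_cons, List.map_nil, h8wX_cons, h8wX_nil, mul_one, pow_one]
  exact c.rel_ls ls32 _ _ (c.ylg_im sp3) (c.ylg_tor sp3) (c.ylg_im sp0) (c.ylg_add sp0) (c.ylg_tor sp0)
    (fun v w => c.rel_ps' sp0 (-2) (by decide) w v) t u

lemma comm_3_5 (t u : K) :
    Yall c.ce X k 5 u * Yall c.ce X k 3 t =
      Yall c.ce X k 3 t * Yall c.ce X k 5 u * h8wX (Yall c.ce X k) (chevB2.commWord K 3 5 t u) := by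
  have hct : chevB2.commTerms 3 5 = [] := by decide
  unfold ChevalleyDatum.commWord
  rw [hct]
  simp only [List.map_cons, List.map_nil, h8wX_cons, h8wX_nil, mul_one, pow_one]
  exact c.lc_sl (s := 5) (l := 3) (by decide) (by decide) (by decide) (by decide) (by decide) u t _ _
    (c.yall_im 5 (by decide) u) (c.yall_im 3 (by decide) t)

lemma comm_3_6 (t u : K) :
    Yall c.ce X k 6 u * Yall c.ce X k 3 t =
      Yall c.ce X k 3 t * Yall c.ce X k 6 u * h8wX (Yall c.ce X k) (chevB2.commWord K 3 6 t u) := by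
  have hct : chevB2.commTerms 3 6 = [(5, 1, 1, 1), (7, 1, 1, 2)] := by decide
  unfold ChevalleyDatum.commWord
  rw [hct]
  simp only [List.map_cons, List.map_nil, h8wX_cons, h8wX_nil, mul_one, pow_one]
  exact c.rel_ls ls36 _ _ (c.ylg_im sp3) (c.ylg_tor sp3) (c.ylg_im sp7) (c.ylg_add sp7) (c.ylg_tor sp7)
    (fun v w => c.rel_ps' sp7 (-2) (by decide) w v) t u

lemma comm_3_7 (t u : K) :
    Yall c.ce X k 7 u * Yall c.ce X k 3 t =
      Yall c.ce X k 3 t * Yall c.ce X k 7 u * h8wX (Yall c.ce X k) (chevB2.commWord K 3 7 t u) := by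
  have hct : chevB2.commTerms 3 7 = [] := by decide
  unfold ChevalleyDatum.commWord
  rw [hct]
  simp only [List.map_cons, List.map_nil, h8wX_cons, h8wX_nil, mul_one, pow_one]
  exact (c.lc_lq ls36 _ _ (c.ylg_im sp3) (c.ylg_tor sp3) (c.ylg_im sp7) (c.ylg_add sp7) (c.ylg_tor sp7)
    (fun v w => c.rel_ps' sp7 (-2) (by decide) w v) (Or.inr rfl) t u _ _
    (c.yall_im 3 (by decide) t) (c.yall_im 7 (by decide) u)).symm

lemma comm_4_0 (t u : K) :
    Yall c.ce X k 0 u * Yall c.ce X k 4 t =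
      Yall c.ce X k 4 t * Yall c.ce X k 0 u * h8wX (Yall c.ce X k) (chevB2.commWord K 4 0 t u) := by
  have hct : chevB2.commTerms 4 0 = [] := by decide
  unfold ChevalleyDatum.commWord
  rw [hct]
  simp only [List.map_cons, List.map_nil, h8wX_cons, h8wX_nil, mul_one, pow_one]
  exact (c.lc_lq ls41 _ _ (c.ylg_im sp4) (c.ylg_tor sp4) (c.ylg_im sp0) (c.ylg_add sp0) (c.ylg_tor sp0)
    (fun v w => c.rel_sp sp0 v w) (Or.inl rfl) t u _ _
    (c.yall_im 4 (by decide) t) (c.yall_im 0 (by decide) u)).symm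

lemma comm_4_1 (t u : K) :
    Yall c.ce X k 1 u * Yall c.ce X k 4 t =
      Yall c.ce X k 4 t * Yall c.ce X k 1 u * h8wX (Yall c.ce X k) (chevB2.commWord K 4 1 t u) := by
  have hct : chevB2.commTerms 4 1 = [(2, -1, 1, 1), (0, 1, 1, 2)] := by decide
  unfold ChevalleyDatum.commWord
  rw [hct]
  simp only [List.map_cons, List.map_nil, h8wX_cons, h8wX_nil, mul_one, pow_one]
  exact c.rel_ls ls41 _ _ (c.ylg_im sp4) (c.ylg_tor sp4) (c.ylg_im sp0) (c.ylg_add sp0) (c.ylg_tor sp0)
    (fun v w => c.rel_sp sp0 v w) t u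

lemma comm_4_2 (t u : K) :
    Yall c.ce X k 2 u * Yall c.ce X k 4 t =
      Yall c.ce X k 4 t * Yall c.ce X k 2 u * h8wX (Yall c.ce X k) (chevB2.commWord K 4 2 t u) := by
  have hct : chevB2.commTerms 4 2 = [] := by decide
  unfold ChevalleyDatum.commWord
  rw [hct]
  simp only [List.map_cons, List.map_nil, h8wX_cons, h8wX_nil, mul_one, pow_one]
  exact c.lc_sl (s := 2) (l := 4) (by decide) (by decide) (by decide) (by decide) (by decide) u t _ _
    (c.yall_im 2 (by decide) u) (c.yall_im 4 (by decide) t)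

lemma comm_4_5 (t u : K) :
    Yall c.ce X k 5 u * Yall c.ce X k 4 t =
      Yall c.ce X k 4 t * Yall c.ce X k 5 u * h8wX (Yall c.ce X k) (chevB2.commWord K 4 5 t u) := by
  have hct : chevB2.commTerms 4 5 = [(6, 1, 1, 1), (7, -1, 1, 2)] := by decide
  unfold ChevalleyDatum.commWord
  rw [hct]
  simp only [List.map_cons, List.map_nil, h8wX_cons, h8wX_nil, mul_one, pow_one]
  exact c.rel_ls ls45 _ _ (c.ylg_im sp4) (c.ylg_tor sp4) (c.ylg_im sp7) (c.ylg_add sp7) (c.ylg_tor sp7)
    (fun v w => c.rel_sp sp7 v w) t u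

lemma comm_4_6 (t u : K) :
    Yall c.ce X k 6 u * Yall c.ce X k 4 t =
      Yall c.ce X k 4 t * Yall c.ce X k 6 u * h8wX (Yall c.ce X k) (chevB2.commWord K 4 6 t u) := by
  have hct : chevB2.commTerms 4 6 = [] := by decide
  unfold ChevalleyDatum.commWord
  rw [hct]
  simp only [List.map_cons, List.map_nil, h8wX_cons, h8wX_nil, mul_one, pow_one]
  exact c.lc_sl (s := 6) (l := 4) (by decide) (by decide) (by decide) (by decide) (by decide) u t _ _
    (c.yall_im 6 (by decide) u) (c.yall_im 4 (by decide) t)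

lemma comm_4_7 (t u : K) :
    Yall c.ce X k 7 u * Yall c.ce X k 4 t =
      Yall c.ce X k 4 t * Yall c.ce X k 7 u * h8wX (Yall c.ce X k) (chevB2.commWord K 4 7 t u) := by
  have hct : chevB2.commTerms 4 7 = [] := by decide
  unfold ChevalleyDatum.commWord
  rw [hct]
  simp only [List.map_cons, List.map_nil, h8wX_cons, h8wX_nil, mul_one, pow_one]
  exact (c.lc_lq ls45 _ _ (c.ylg_im sp4) (c.ylg_tor sp4) (c.ylg_im sp7) (c.ylg_add sp7) (c.ylg_tor sp7)
    (fun v w => c.rel_sp sp7 v w) (Or.inl rfl) t u _ _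
    (c.yall_im 4 (by decide) t) (c.yall_im 7 (by decide) u)).symm

lemma comm_5_0 (t u : K) :
    Yall c.ce X k 0 u * Yall c.ce X k 5 t =
      Yall c.ce X k 5 t * Yall c.ce X k 0 u * h8wX (Yall c.ce X k) (chevB2.commWord K 5 0 t u) := by
  have hct : chevB2.commTerms 5 0 = [(1, -1, 1, 1), (3, -1, 2, 1)] := by decide
  unfold ChevalleyDatum.commWord
  rw [hct]
  simp only [List.map_cons, List.map_nil, h8wX_cons, h8wX_nil, mul_one, pow_one]
  exact c.rel_sl' ls05 (-1) (by decide) _ _ (c.ylg_im sp0) (c.ylg_tor sp0) (c.ylg_im sp3) (c.ylg_add sp3) (c.ylg_tor sp3)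
    (fun v w => c.rel_ps' sp3 2 (by decide) w v) t u

lemma comm_5_1 (t u : K) :
    Yall c.ce X k 1 u * Yall c.ce X k 5 t =
      Yall c.ce X k 5 t * Yall c.ce X k 1 u * h8wX (Yall c.ce X k) (chevB2.commWord K 5 1 t u) := by
  have hct : chevB2.commTerms 5 1 = [(3, 2, 1, 1)] := by decide
  unfold ChevalleyDatum.commWord
  rw [hct]
  simp only [List.map_cons, List.map_nil, h8wX_cons, h8wX_nil, mul_one, pow_one]
  exact c.rel_ps' sp3 2 (by decide) u t

lemma comm_5_3 (t u : K) :
    Yall c.ce X k 3 u * Yall c.ce X k 5 t =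
      Yall c.ce X k 5 t * Yall c.ce X k 3 u * h8wX (Yall c.ce X k) (chevB2.commWord K 5 3 t u) := by
  have hct : chevB2.commTerms 5 3 = [] := by decide
  unfold ChevalleyDatum.commWord
  rw [hct]
  simp only [List.map_cons, List.map_nil, h8wX_cons, h8wX_nil, mul_one, pow_one]
  exact (c.lc_sl (s := 5) (l := 3) (by decide) (by decide) hct (by decide) (by decide) t u _ _
    (c.yall_im 5 (by decide) t) (c.yall_im 3 (by decide) u)).symm

lemma comm_5_4 (t u : K) :
    Yall c.ce X k 4 u * Yall c.ce X k 5 t =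
      Yall c.ce X k 5 t * Yall c.ce X k 4 u * h8wX (Yall c.ce X k) (chevB2.commWord K 5 4 t u) := by
  have hct : chevB2.commTerms 5 4 = [(6, -1, 1, 1), (7, -1, 2, 1)] := by decide
  unfold ChevalleyDatum.commWord
  rw [hct]
  simp only [List.map_cons, List.map_nil, h8wX_cons, h8wX_nil, mul_one, pow_one]
  exact c.rel_sl' ls45 (-1) (by decide) _ _ (c.ylg_im sp4) (c.ylg_tor sp4) (c.ylg_im sp7) (c.ylg_add sp7) (c.ylg_tor sp7)
    (fun v w => c.rel_sp sp7 v w) t u

lemma comm_5_6 (t u : K) :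
    Yall c.ce X k 6 u * Yall c.ce X k 5 t =
      Yall c.ce X k 5 t * Yall c.ce X k 6 u * h8wX (Yall c.ce X k) (chevB2.commWord K 5 6 t u) := by
  have hct : chevB2.commTerms 5 6 = [(7, 2, 1, 1)] := by decide
  unfold ChevalleyDatum.commWord
  rw [hct]
  simp only [List.map_cons, List.map_nil, h8wX_cons, h8wX_nil, mul_one, pow_one]
  exact c.rel_sp sp7 t u

lemma comm_5_7 (t u : K) :
    Yall c.ce X k 7 u * Yall c.ce X k 5 t =
      Yall c.ce X k 5 t * Yall c.ce X k 7 u * h8wX (Yall c.ce X k) (chevB2.commWord K 5 7 t u) := by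
  have hct : chevB2.commTerms 5 7 = [] := by decide
  unfold ChevalleyDatum.commWord
  rw [hct]
  simp only [List.map_cons, List.map_nil, h8wX_cons, h8wX_nil, mul_one, pow_one]
  exact (c.lc_sl (s := 5) (l := 7) (by decide) (by decide) hct (by decide) (by decide) t u _ _
    (c.yall_im 5 (by decide) t) (c.yall_im 7 (by decide) u)).symm

lemma comm_6_0 (t u : K) :
    Yall c.ce X k 0 u * Yall c.ce X k 6 t =
      Yall c.ce X k 6 t * Yall c.ce X k 0 u * h8wX (Yall c.ce X k) (chevB2.commWord K 6 0 t u) := by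
  have hct : chevB2.commTerms 6 0 = [(2, 1, 1, 1), (4, 1, 2, 1)] := by decide
  unfold ChevalleyDatum.commWord
  rw [hct]
  simp only [List.map_cons, List.map_nil, h8wX_cons, h8wX_nil, mul_one, pow_one]
  exact c.rel_sl' ls06 1 (by decide) _ _ (c.ylg_im sp0) (c.ylg_tor sp0) (c.ylg_im sp4) (c.ylg_add sp4) (c.ylg_tor sp4)
    (fun v w => c.rel_ps' sp4 2 (by decide) w v) t u

lemma comm_6_2 (t u : K) :
    Yall c.ce X k 2 u * Yall c.ce X k 6 t =
      Yall c.ce X k 6 t * Yall c.ce X k 2 u * h8wX (Yall c.ce X k) (chevB2.commWord K 6 2 t u) := by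
  have hct : chevB2.commTerms 6 2 = [(4, 2, 1, 1)] := by decide
  unfold ChevalleyDatum.commWord
  rw [hct]
  simp only [List.map_cons, List.map_nil, h8wX_cons, h8wX_nil, mul_one, pow_one]
  exact c.rel_ps' sp4 2 (by decide) u t

lemma comm_6_3 (t u : K) :
    Yall c.ce X k 3 u * Yall c.ce X k 6 t =
      Yall c.ce X k 6 t * Yall c.ce X k 3 u * h8wX (Yall c.ce X k) (chevB2.commWord K 6 3 t u) := by
  have hct : chevB2.commTerms 6 3 = [(5, -1, 1, 1), (7, 1, 2, 1)] := by decide
  unfold ChevalleyDatum.commWord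
  rw [hct]
  simp only [List.map_cons, List.map_nil, h8wX_cons, h8wX_nil, mul_one, pow_one]
  exact c.rel_sl' ls36 (-1) (by decide) _ _ (c.ylg_im sp3) (c.ylg_tor sp3) (c.ylg_im sp7) (c.ylg_add sp7) (c.ylg_tor sp7)
    (fun v w => c.rel_ps' sp7 (-2) (by decide) w v) t u

lemma comm_6_4 (t u : K) :
    Yall c.ce X k 4 u * Yall c.ce X k 6 t =
      Yall c.ce X k 6 t * Yall c.ce X k 4 u * h8wX (Yall c.ce X k) (chevB2.commWord K 6 4 t u) := by
  have hct : chevB2.commTerms 6 4 = [] := by decide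
  unfold ChevalleyDatum.commWord
  rw [hct]
  simp only [List.map_cons, List.map_nil, h8wX_cons, h8wX_nil, mul_one, pow_one]
  exact (c.lc_sl (s := 6) (l := 4) (by decide) (by decide) hct (by decide) (by decide) t u _ _
    (c.yall_im 6 (by decide) t) (c.yall_im 4 (by decide) u)).symm

lemma comm_6_5 (t u : K) :
    Yall c.ce X k 5 u * Yall c.ce X k 6 t =
      Yall c.ce X k 6 t * Yall c.ce X k 5 u * h8wX (Yall c.ce X k) (chevB2.commWord K 6 5 t u) := by
  have hct : chevB2.commTerms 6 5 = [(7, -2, 1, 1)] := by decide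
  unfold ChevalleyDatum.commWord
  rw [hct]
  simp only [List.map_cons, List.map_nil, h8wX_cons, h8wX_nil, mul_one, pow_one]
  exact c.rel_ps' sp7 (-2) (by decide) u t

lemma comm_6_7 (t u : K) :
    Yall c.ce X k 7 u * Yall c.ce X k 6 t =
      Yall c.ce X k 6 t * Yall c.ce X k 7 u * h8wX (Yall c.ce X k) (chevB2.commWord K 6 7 t u) := by
  have hct : chevB2.commTerms 6 7 = [] := by decide
  unfold ChevalleyDatum.commWord
  rw [hct]
  simp only [List.map_cons, List.map_nil, h8wX_cons, h8wX_nil, mul_one, pow_one]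
  exact (c.lc_sl (s := 6) (l := 7) (by decide) (by decide) hct (by decide) (by decide) t u _ _
    (c.yall_im 6 (by decide) t) (c.yall_im 7 (by decide) u)).symm

lemma comm_7_1 (t u : K) :
    Yall c.ce X k 1 u * Yall c.ce X k 7 t =
      Yall c.ce X k 7 t * Yall c.ce X k 1 u * h8wX (Yall c.ce X k) (chevB2.commWord K 7 1 t u) := by
  have hct : chevB2.commTerms 7 1 = [(5, 1, 1, 1), (3, 1, 1, 2)] := by decide
  unfold ChevalleyDatum.commWord
  rw [hct]
  simp only [List.map_cons, List.map_nil, h8wX_cons, h8wX_nil, mul_one, pow_one]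
  exact c.rel_ls ls71 _ _ (c.ylg_im sp7) (c.ylg_tor sp7) (c.ylg_im sp3) (c.ylg_add sp3) (c.ylg_tor sp3)
    (fun v w => c.rel_sp sp3 v w) t u

lemma comm_7_2 (t u : K) :
    Yall c.ce X k 2 u * Yall c.ce X k 7 t =
      Yall c.ce X k 7 t * Yall c.ce X k 2 u * h8wX (Yall c.ce X k) (chevB2.commWord K 7 2 t u) := by
  have hct : chevB2.commTerms 7 2 = [(6, -1, 1, 1), (4, -1, 1, 2)] := by decide
  unfold ChevalleyDatum.commWord
  rw [hct]
  simp only [List.map_cons, List.map_nil, h8wX_cons, h8wX_nil, mul_one, pow_one]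
  exact c.rel_ls ls72 _ _ (c.ylg_im sp7) (c.ylg_tor sp7) (c.ylg_im sp4) (c.ylg_add sp4) (c.ylg_tor sp4)
    (fun v w => c.rel_sp sp4 v w) t u

lemma comm_7_3 (t u : K) :
    Yall c.ce X k 3 u * Yall c.ce X k 7 t =
      Yall c.ce X k 7 t * Yall c.ce X k 3 u * h8wX (Yall c.ce X k) (chevB2.commWord K 7 3 t u) := by
  have hct : chevB2.commTerms 7 3 = [] := by decide
  unfold ChevalleyDatum.commWord
  rw [hct]
  simp only [List.map_cons, List.map_nil, h8wX_cons, h8wX_nil, mul_one, pow_one]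
  exact (c.lc_lq ls71 _ _ (c.ylg_im sp7) (c.ylg_tor sp7) (c.ylg_im sp3) (c.ylg_add sp3) (c.ylg_tor sp3)
    (fun v w => c.rel_sp sp3 v w) (Or.inr rfl) t u _ _
    (c.yall_im 7 (by decide) t) (c.yall_im 3 (by decide) u)).symm

lemma comm_7_4 (t u : K) :
    Yall c.ce X k 4 u * Yall c.ce X k 7 t =
      Yall c.ce X k 7 t * Yall c.ce X k 4 u * h8wX (Yall c.ce X k) (chevB2.commWord K 7 4 t u) := by
  have hct : chevB2.commTerms 7 4 = [] := by decide
  unfold ChevalleyDatum.commWord
  rw [hct]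
  simp only [List.map_cons, List.map_nil, h8wX_cons, h8wX_nil, mul_one, pow_one]
  exact (c.lc_lq ls72 _ _ (c.ylg_im sp7) (c.ylg_tor sp7) (c.ylg_im sp4) (c.ylg_add sp4) (c.ylg_tor sp4)
    (fun v w => c.rel_sp sp4 v w) (Or.inr rfl) t u _ _
    (c.yall_im 7 (by decide) t) (c.yall_im 4 (by decide) u)).symm

lemma comm_7_5 (t u : K) :
    Yall c.ce X k 5 u * Yall c.ce X k 7 t =
      Yall c.ce X k 7 t * Yall c.ce X k 5 u * h8wX (Yall c.ce X k) (chevB2.commWord K 7 5 t u) := by
  have hct : chevB2.commTerms 7 5 = [] := by decide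
  unfold ChevalleyDatum.commWord
  rw [hct]
  simp only [List.map_cons, List.map_nil, h8wX_cons, h8wX_nil, mul_one, pow_one]
  exact c.lc_sl (s := 5) (l := 7) (by decide) (by decide) (by decide) (by decide) (by decide) u t _ _
    (c.yall_im 5 (by decide) u) (c.yall_im 7 (by decide) t)

lemma comm_7_6 (t u : K) :
    Yall c.ce X k 6 u * Yall c.ce X k 7 t =
      Yall c.ce X k 7 t * Yall c.ce X k 6 u * h8wX (Yall c.ce X k) (chevB2.commWord K 7 6 t u) := by
  have hct : chevB2.commTerms 7 6 = [] := by decide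
  unfold ChevalleyDatum.commWord
  rw [hct]
  simp only [List.map_cons, List.map_nil, h8wX_cons, h8wX_nil, mul_one, pow_one]
  exact c.lc_sl (s := 6) (l := 7) (by decide) (by decide) (by decide) (by decide) (by decide) u t _ _
    (c.yall_im 6 (by decide) u) (c.yall_im 7 (by decide) t)

/-- the canonical lifts form a system of root elements -/
theorem yall_sys : H8Sys chevB2 (Yall c.ce X k) := by
  refine ⟨fun r hr t u => c.yall_add r hr t u, ?_⟩
  intro r hr s hs h1 h2 t u
  have hr' : r < 8 := hr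
  have hs' : s < 8 := hs
  interval_cases r
  · interval_cases s
    · exact absurd rfl h1
    · exact c.comm_0_1 t u
    · exact c.comm_0_2 t u
    · exact c.comm_0_3 t u
    · exact c.comm_0_4 t u
    · exact c.comm_0_5 t u
    · exact c.comm_0_6 t u
    · exact absurd (by decide) h2
  · interval_cases s
    · exact c.comm_1_0 t u
    · exact absurd rfl h1
    · exact c.comm_1_2 t u
    · exact c.comm_1_3 t u
    · exact c.comm_1_4 t u
    · exact c.comm_1_5 t u
    · exact absurd (by decide) h2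
    · exact c.comm_1_7 t u
  · interval_cases s
    · exact c.comm_2_0 t u
    · exact c.comm_2_1 t u
    · exact absurd rfl h1
    · exact c.comm_2_3 t u
    · exact c.comm_2_4 t u
    · exact absurd (by decide) h2
    · exact c.comm_2_6 t u
    · exact c.comm_2_7 t u
  · interval_cases s
    · exact c.comm_3_0 t u
    · exact c.comm_3_1 t u
    · exact c.comm_3_2 t u
    · exact absurd rfl h1
    · exact absurd (by decide) h2
    · exact c.comm_3_5 t u
    · exact c.comm_3_6 t u
    · exact c.comm_3_7 t u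
  · interval_cases s
    · exact c.comm_4_0 t u
    · exact c.comm_4_1 t u
    · exact c.comm_4_2 t u
    · exact absurd (by decide) h2
    · exact absurd rfl h1
    · exact c.comm_4_5 t u
    · exact c.comm_4_6 t u
    · exact c.comm_4_7 t u
  · interval_cases s
    · exact c.comm_5_0 t u
    · exact c.comm_5_1 t u
    · exact absurd (by decide) h2
    · exact c.comm_5_3 t u
    · exact c.comm_5_4 t u
    · exact absurd rfl h1
    · exact c.comm_5_6 t u
    · exact c.comm_5_7 t u
  · interval_cases s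
    · exact c.comm_6_0 t u
    · exact absurd (by decide) h2
    · exact c.comm_6_2 t u
    · exact c.comm_6_3 t u
    · exact c.comm_6_4 t u
    · exact c.comm_6_5 t u
    · exact absurd rfl h1
    · exact c.comm_6_7 t u
  · interval_cases s
    · exact absurd (by decide) h2
    · exact c.comm_7_1 t u
    · exact c.comm_7_2 t u
    · exact c.comm_7_3 t u
    · exact c.comm_7_4 t u
    · exact c.comm_7_5 t u
    · exact c.comm_7_6 t u
    · exact absurd rfl h1

end Ctx

end Cfsg.Agent.Lib.helper7.Sg.B23
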