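import Mathlib
import Cfsg.Prelude.Def_SteinbergCover
import Cfsg.Agent.Lib.helper7.Sg.B23e
import Cfsg.Agent.Lib.helper8.ChevUC22

set_option autoImplicit false
set_option linter.unusedSectionVars false

/-!
Every central extension of the Steinberg cover of type `B₂` over the field with three elements
splits.
-/

namespace Cfsg.Agent.Lib.helper7.Sg

open Cfsg.Lie Cfsg.Lie.ChevalleyDatum Cfsg.Agent.Lib.helper8

universe u w

variable {K : Type u} [Field K] [Fintype K] {E : Type w} [Group E]

namespace B23

omit [Fintype K] in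
lemma three_of_card [Fintype K] (h3 : Fintype.card K = 3) :
    (3 : K) = 0 ∧ ∀ t : K, t = 0 ∨ t = 1 ∨ t = -1 := by
  classical
  have h30 : (3 : K) = 0 := by
    have := Nat.cast_card_eq_zero K
    rw [h3] at this
    exact_mod_cast this
  refine ⟨h30, ?_⟩
  have h1 : (1 : K) ≠ -1 := by
    intro hcon
    have h2 : (1 : K) + 1 = 0 := by
      nth_rewrite 2 [hcon]
      rw [add_neg_cancel]
    have : (1 : K) = 3 - (1 + 1) := by norm_num
    rw [h30, h2, sub_zero] at this
    exact one_ne_zero this
  have hcard : ({0, 1, -1} : Finset K).card = 3 := by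
    rw [Finset.card_insert_of_notMem, Finset.card_insert_of_notMem, Finset.card_singleton]
    · simpa using h1
    · simp only [Finset.mem_insert, Finset.mem_singleton, not_or]
      exact ⟨zero_ne_one, by
        intro hcon
        have := neg_eq_zero.1 hcon.symm
        exact one_ne_zero this⟩
  have huniv : ({0, 1, -1} : Finset K) = Finset.univ := by
    apply Finset.eq_univ_of_card
    rw [hcard, h3]
  intro t
  have ht : t ∈ ({0, 1, -1} : Finset K) := by rw [huniv]; exact Finset.mem_univ t
  simpa using ht

end B23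

/-- Steinberg's theorem for type `B₂` over the field with three elements -/
theorem split_B2_3 (h3 : Fintype.card K = 3) {ρ : E →* chevB2.SteinbergCover K} (h : H8CE ρ) :
    ∃ τ : chevB2.SteinbergCover K →* E, ρ.comp τ = MonoidHom.id _ := by
  have hD : chevB2 ∈ [chevG2, chevB2, chevD4, chevF4, chevE6, chevE7, chevE8] := by simp
  have hB := h8base_all.{u} chevB2 hD
  have hC := h8commAll.{u} chevB2 hD
  have hL := h8all_all chevB2 hD
  have hP := h8sc_pair (K := K) chevB2 hB hC
  have hWS := h8w0s_all chevB2 hD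
  have hN2 := h8n2_all chevB2 hD
  have hsc := h8scChk_all chevB2 hD
  obtain ⟨h30, hc3⟩ := B23.three_of_card h3
  set X : ℕ → K → chevB2.SteinbergCover K := chevB2.scGen K with hX
  set k : chevB2.SteinbergCover K := h8ucK chevB2 X [0, 1] (-1) with hk
  have hact : ∀ r < chevB2.nroots, ∀ t : K,
      k * X r t * k⁻¹ = X r ((-1 : K) ^ (h8pr chevB2 [0, 1] r) * t) := fun r hr t =>
    h8ucK_act hP hL hWS hN2 hsc [0, 1] (-1) (neg_ne_zero.mpr one_ne_zero) r hr t
  have c : B23.Ctx ρ X k := by
    refine ⟨h, h8sc_sys chevB2, h30, hc3, ?_, ?_⟩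
    · intro s hs t
      rw [hact s hs.lt t]
      congr 1
      rcases hs with rfl | rfl | rfl | rfl
      · have : h8pr chevB2 [0, 1] 1 = -1 := by decide
        rw [this]; simp
      · have : h8pr chevB2 [0, 1] 2 = 1 := by decide
        rw [this]; simp
      · have : h8pr chevB2 [0, 1] 5 = -1 := by decide
        rw [this]; simp
      · have : h8pr chevB2 [0, 1] 6 = 1 := by decide
        rw [this]; simp
    · intro l hl t
      rw [hact l hl.lt t]
      congr 1
      rcases hl with rfl | rfl | rfl | rfl
      · have : h8pr chevB2 [0, 1] 0 = 0 := by decide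
        rw [this]; simp
      · have : h8pr chevB2 [0, 1] 3 = -2 := by decide
        rw [this]; simp
      · have : h8pr chevB2 [0, 1] 4 = 2 := by decide
        rw [this]; simp
      · have : h8pr chevB2 [0, 1] 7 = 0 := by decide
        rw [this]; simp
  have hS := c.yall_sys
  have hY0 : ∀ q, chevB2.nroots ≤ q → ∀ v : K, B23.Yall c.ce X k q v = 1 :=
    fun q hq v => B23.yall_oob c.ce X k q hq v
  have hρ : ∀ r t, ρ (B23.Yall c.ce X k r t) = X r t := by
    intro r t
    by_cases hr : r < 8
    · exact c.yall_im r hr t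
    · have hr' : chevB2.nroots ≤ r := not_lt.mp hr
      rw [hY0 r hr' t, map_one, hX, h8scGen_oob chevB2 r hr' t]
  refine ⟨h8ucSigma chevB2 (B23.Yall c.ce X k) hS hY0, ?_⟩
  apply PresentedGroup.ext
  intro p
  rw [MonoidHom.comp_apply, MonoidHom.id_apply]
  have e1 : (PresentedGroup.of p : chevB2.SteinbergCover K) = chevB2.scGen K p.1.val p.2 := by
    unfold ChevalleyDatum.scGen ChevalleyDatum.stX
    rw [dif_pos p.1.2]
    rfl
  rw [e1, h8ucSigma_gen, hρ]

end Cfsg.Agent.Lib.helper7.Sg
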