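import Mathlib
import Cfsg.Prelude.Def_SteinbergCover
import Cfsg.Agent.Lib.helper8.ChevUC22

set_option autoImplicit false
set_option linter.unusedSectionVars false

/-!
Steinberg's theorem on central extensions of the group presented by (R1), (R2), with the
torus separation and commutation hypotheses in abstract form (on top of helper8's library).
-/

namespace Cfsg.Agent.Lib.helper7.Sg

open Cfsg.Lie Cfsg.Lie.ChevalleyDatum Cfsg.Agent.Lib.helper8

universe u w

variable {K : Type u} [Field K] {E : Type w} [Group E]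

/-- Every central extension of the presented cover splits, as soon as every root subgroup is
moved by some torus element, every pair of positive roots is separated by a torus element or
has commuting lifts, and lifts of elements of one root subgroup commute. -/
theorem split_gen (D : ChevalleyDatum)
    (hD : D ∈ [chevG2, chevB2, chevD4, chevF4, chevE6, chevE7, chevE8])
    (hKp : D ∈ [chevB2, chevG2] → ∃ x : K, x ≠ 0 ∧ x ≠ 1)
    (hO3 : h8ord3Chk D = true)
    {ρ : E →* D.SteinbergCover K} (h : H8CE ρ)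
    (hmf : ∀ r < D.nroots, ∃ (m : List ℤ) (c : K), c ≠ 0 ∧ c ^ (h8pr D m r) ≠ 1)
    (hPM : ∀ γ δ, D.IsPosRoot γ → D.IsPosRoot δ → γ < δ →
      (∃ (m : List ℤ) (c : K), c ≠ 0 ∧ c ^ (h8pr D m δ) = 1 ∧ c ^ (h8pr D m γ) ≠ 1) ∨
      (D.commTerms γ δ = [] ∧
        ∀ (a b : K) (x y : E), ρ x = D.scGen K γ a → ρ y = D.scGen K δ b → x * y = y * x))
    (hself : ∀ r < D.nroots, ∀ (a b : K) (x y : E),
      ρ x = D.scGen K r a → ρ y = D.scGen K r b → x * y = y * x) :
    ∃ τ : D.SteinbergCover K →* E, ρ.comp τ = MonoidHom.id _ := by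
  have hB := h8base_all.{u} D hD
  have hC := h8commAll.{u} D hD
  have hL := h8all_all D hD
  have hperf : commutator (D.SteinbergCover K) = ⊤ := h8sc_perfect_all D hD hKp
  have hP := h8sc_pair (K := K) D hB hC
  obtain ⟨Y, hS, hρ, hY0⟩ := h8uc_sys_main3 hP hL (h8w0s_all D hD)
    (h8n2_all D hD) (h8sc_gen D) hperf (h8scChk_all D hD) (h8ord3_of_chk D hB hL hO3)
    (fun r hr t => h8scGen_oob D r hr t) h hmf hPM hself
  refine ⟨h8ucSigma D Y hS hY0, ?_⟩
  apply PresentedGroup.ext
  intro p
  rw [MonoidHom.comp_apply, MonoidHom.id_apply]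
  have e1 : (PresentedGroup.of p : D.SteinbergCover K) = D.scGen K p.1.val p.2 := by
    unfold ChevalleyDatum.scGen ChevalleyDatum.stX
    rw [dif_pos p.1.2]
    rfl
  rw [e1, h8ucSigma_gen, hρ]

end Cfsg.Agent.Lib.helper7.Sg
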