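import Mathlib
import Cfsg.Prelude.Def_SteinbergCover
import Cfsg.Prelude.Def_ChevB2
import Cfsg.Agent.Lib.helper7.Sg.Gen
import Cfsg.Agent.Lib.helper8.ChevUC24

set_option autoImplicit false
set_option linter.unusedSectionVars false

/-!
Every central extension of the Steinberg cover of type `B₂` over the field with four elements
splits.
-/

namespace Cfsg.Agent.Lib.helper7.Sg

open Cfsg.Lie Cfsg.Lie.ChevalleyDatum Cfsg.Agent.Lib.helper8

universe u v w

section gen

variable {K : Type u} [Field K] {Γ : Type v} [Group Γ] {E : Type w} [Group E] {ρ : E →* Γ}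
variable {D : ChevalleyDatum} {X : ℕ → K → Γ}

/-- lifts of two elements of the root subgroup `q` commute, if `X q` is the first term of a
commutator relation `[X γ, X β] = X q * X α` and lifts of `X q` commute with lifts of `X β`,
`X γ`, `X α` -/
theorem self_comm_cfg1 (h : H8CE ρ) (q β γ α : ℕ) (c₁ c₂ : K → K → K)
    (hrel : ∀ t u : K, X γ u * X β t = X β t * X γ u * (X q (c₁ t u) * X α (c₂ t u)))
    (hsurj : ∀ v : K, ∃ t u : K, c₁ t u = v)
    (hβ : ∀ (a b : K) (x y : E), ρ x = X q a → ρ y = X β b → x * y = y * x)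
    (hγ : ∀ (a b : K) (x y : E), ρ x = X q a → ρ y = X γ b → x * y = y * x)
    (hα : ∀ (a b : K) (x y : E), ρ x = X q a → ρ y = X α b → x * y = y * x)
    (a b : K) (x y : E) (hx : ρ x = X q a) (hy : ρ y = X q b) : x * y = y * x := by
  obtain ⟨t, u, htu⟩ := hsurj b
  set B := h.lift (X β t) with hB
  set C := h.lift (X γ u) with hC
  set A := h.lift (X α (c₂ t u)) with hA
  have cB : Commute x B := hβ a t x B hx (h.lift_spec _)
  have cC : Commute x C := hγ a u x C hx (h.lift_spec _)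
  have cA : Commute x A := hα a (c₂ t u) x A hx (h.lift_spec _)
  set y' := (B * C)⁻¹ * (C * B) * A⁻¹ with hy'
  have hρy' : ρ y' = X q b := by
    rw [hy', map_mul, map_mul, map_inv, map_inv, map_mul, map_mul, hB, hC, hA, h.lift_spec,
      h.lift_spec, h.lift_spec, hrel t u, htu]
    group
  have hxy' : Commute x y' :=
    ((cB.mul_right cC).inv_right.mul_right (cC.mul_right cB)).mul_right cA.inv_right
  have e := h.comm_eq (a := x) (a' := x) (b := y) (b' := y') rfl (by rw [hy, hρy'])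
  have e2 : x * y' * x⁻¹ * y'⁻¹ = 1 := by
    rw [hxy'.eq]; group
  rw [e2] at e
  calc x * y = (x * y * x⁻¹ * y⁻¹) * (y * x) := by group
    _ = y * x := by rw [e, one_mul]

/-- the two-term commutator relation in the form used by the configuration arguments -/
theorem rel_two (hS : H8Sys D X) (β γ q α : ℕ) (ε₁ ε₂ : ℤ) (i₁ j₁ i₂ j₂ : ℕ)
    (hβ : β < D.nroots) (hγ : γ < D.nroots) (hγβ : γ ≠ β) (hγβ' : γ ≠ D.negIdx.getD β 0)
    (hct : D.commTerms β γ = [(q, ε₁, i₁, j₁), (α, ε₂, i₂, j₂)]) (t u : K) :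
    X γ u * X β t = X β t * X γ u *
      (X q ((ε₁ : K) * (-t) ^ i₁ * u ^ j₁) * X α ((ε₂ : K) * (-t) ^ i₂ * u ^ j₂)) := by
  have := hS.comm β hβ γ hγ hγβ hγβ' t u
  unfold ChevalleyDatum.commWord at this
  rw [hct] at this
  rw [this]
  simp only [List.map_cons, List.map_nil, h8wX_cons, h8wX_nil, mul_one]

end gen

variable {K : Type u} [Field K] [Fintype K] {E : Type w} [Group E]

theorem b2_pair3 : h8pairChk2 chevB2 3 [1, -1] [] = true := by decide +kernel

/-- the table facts used for type `B₂` -/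
theorem b2_ct : chevB2.commTerms 5 4 = [(6, -1, 1, 1), (7, -1, 2, 1)] ∧
    chevB2.commTerms 2 7 = [(6, 1, 1, 1), (4, -1, 2, 1)] ∧
    chevB2.commTerms 0 5 = [(1, 1, 1, 1), (3, -1, 1, 2)] ∧
    chevB2.commTerms 1 4 = [(2, 1, 1, 1), (0, 1, 2, 1)] := by decide +kernel

theorem b2_ct' : chevB2.commTerms 6 3 = [(5, -1, 1, 1), (7, 1, 2, 1)] ∧
    chevB2.commTerms 2 3 = [(1, 1, 1, 1), (0, -1, 2, 1)] := by decide +kernel

theorem b2_ct2 : chevB2.commTerms 6 5 = [(7, -2, 1, 1)] ∧ chevB2.commTerms 5 6 = [(7, 2, 1, 1)] ∧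
    chevB2.commTerms 2 1 = [(0, -2, 1, 1)] ∧ chevB2.commTerms 1 2 = [(0, 2, 1, 1)] := by
  decide +kernel

theorem b2_ok : (h8commOK chevB2 3 7 5 = true ∧ h8commOK chevB2 3 7 4 = true ∧
      h8commOK chevB2 3 7 6 = true) ∧
    (h8commOK chevB2 3 4 2 = true ∧ h8commOK chevB2 3 4 7 = true ∧
      h8commOK chevB2 3 4 6 = true) ∧
    (h8commOK chevB2 3 3 0 = true ∧ h8commOK chevB2 3 3 5 = true ∧
      h8commOK chevB2 3 3 1 = true) ∧
    (h8commOK chevB2 3 0 1 = true ∧ h8commOK chevB2 3 0 4 = true ∧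
      h8commOK chevB2 3 0 2 = true) ∧
    (h8commOK chevB2 3 6 4 = true ∧ h8commOK chevB2 3 6 7 = true) ∧
    (h8commOK chevB2 3 5 3 = true ∧ h8commOK chevB2 3 5 7 = true) ∧
    (h8commOK chevB2 3 2 4 = true ∧ h8commOK chevB2 3 2 0 = true) ∧
    (h8commOK chevB2 3 1 3 = true ∧ h8commOK chevB2 3 1 0 = true) := by decide +kernel

theorem b2_pr : (h8pr chevB2 [2, 1] 6 = 1 ∧ h8pr chevB2 [2, 1] 5 = 3) ∧
    (h8pr chevB2 [1, 0] 5 = 2 ∧ h8pr chevB2 [1, 0] 6 = 0) ∧
    (h8pr chevB2 [1, 0] 2 = -2 ∧ h8pr chevB2 [1, 0] 1 = 0) ∧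
    (h8pr chevB2 [2, 1] 1 = -1 ∧ h8pr chevB2 [2, 1] 2 = -3) := by decide +kernel

theorem b2_m2 : ∀ r < 8, h8pr chevB2 (h8ucM2 chevB2 r) r % 3 ≠ 0 := by decide +kernel

/-- Steinberg's theorem for type `B₂` over the field with four elements -/
theorem split_B2_4 (h4 : Fintype.card K = 4) {ρ : E →* chevB2.SteinbergCover K} (h : H8CE ρ) :
    ∃ τ : chevB2.SteinbergCover K →* E, ρ.comp τ = MonoidHom.id _ := by
  have hD : chevB2 ∈ [chevG2, chevB2, chevD4, chevF4, chevE6, chevE7, chevE8] := by simp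
  obtain ⟨ω, hc⟩ := h8card4_ord h4
  have hB := h8base_all.{u} chevB2 hD
  have hC := h8commAll.{u} chevB2 hD
  have hL := h8all_all chevB2 hD
  have hWS := h8w0s_all chevB2 hD
  have hN2 := h8n2_all chevB2 hD
  have hsc := h8scChk_all chevB2 hD
  have hP := h8sc_pair (K := K) chevB2 hB hC
  have hS := h8sc_sys (K := K) chevB2
  set X : ℕ → K → chevB2.SteinbergCover K := chevB2.scGen K with hX
  have hω1 : ω ≠ 1 := by
    intro h1
    have := (hc.iff 1).mp (by rw [zpow_one]; exact h1)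
    norm_num at this
  -- characteristic two
  have h2 : (2 : K) = 0 := by
    have h4' : ((Fintype.card K : ℕ) : K) = 0 := Nat.cast_card_eq_zero K
    rw [h4] at h4'
    have : (2 : K) * 2 = 0 := by
      have e : (2 : K) * 2 = ((4 : ℕ) : K) := by push_cast; ring
      rw [e, h4']
    exact mul_self_eq_zero.mp this
  -- powers of ω
  have hpow : ∀ e : ℤ, e % 3 ≠ 0 → ω ^ e ≠ 1 := fun e he h1 => he ((hc.iff e).mp h1)
  have hpow0 : ∀ e : ℤ, e % 3 = 0 → ω ^ e = 1 := fun e he => (hc.iff e).mpr he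
  -- commuting pairs separated by the torus
  have hok : ∀ α δ, α < 8 → δ < 8 → h8commOK chevB2 3 α δ = true →
      ∀ (a b : K) (x y : E), ρ x = X α a → ρ y = X δ b → x * y = y * x :=
    fun α δ hα hδ hk a b x y hx hy =>
      h8uc_commOK_spec hP hL hWS hN2 hsc h ω 3 hc α δ hα hδ hk a b x y hx hy
  -- orthogonal short roots
  have horth : ∀ (q β s : ℕ) (e : ℤ) (m : List ℤ), q < 8 → β < 8 → s < 8 → β ≠ q →
      β ≠ chevB2.negIdx.getD q 0 → chevB2.commTerms q β = [(s, e, 1, 1)] → (e : K) = 0 →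
      h8pr chevB2 m q % 3 ≠ 0 → h8pr chevB2 m β % 3 = 0 →
      ∀ (a b : K) (x y : E), ρ x = X q a → ρ y = X β b → x * y = y * x := by
    intro q β s e m hq hβ hs hne hne' hct he hmq hmβ a b x y hx hy
    have hcomm : ∀ t u : K, X q t * X β u = X β u * X q t := by
      intro t u
      have := hS.comm q hq β hβ hne hne' t u
      unfold ChevalleyDatum.commWord at this
      rw [hct] at this
      simp only [List.map_cons, List.map_nil, h8wX_cons, h8wX_nil, mul_one] at this
      rw [he, zero_mul, zero_mul, h8sys_zero hS s hs, mul_one] at this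
      exact this.symm
    refine h8uc_comm_pair h hS q β hq hcomm (h8ucK chevB2 X m ω) (ω ^ (h8pr chevB2 m q))
      (hpow _ hmq) ?_ ?_ a b x y hx hy
    · intro t
      exact h8ucK_act hP hL hWS hN2 hsc m ω hc.ne0 q hq t
    · intro t
      have := h8ucK_act hP hL hWS hN2 hsc m ω hc.ne0 β hβ t
      rw [hpow0 _ hmβ, one_mul] at this
      exact this
  obtain ⟨c54, c27, c05, c14⟩ := b2_ct
  obtain ⟨c63, c23⟩ := b2_ct'
  obtain ⟨o65, o56, o21, o12⟩ := b2_ct2
  obtain ⟨⟨k75, k74, k76⟩, ⟨k42, k47, k46⟩, ⟨k30, k35, k31⟩, ⟨k01, k04, k02⟩, ⟨k64, k67⟩,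
    ⟨k53, k57⟩, ⟨k24, k20⟩, ⟨k13, k10⟩⟩ := b2_ok
  obtain ⟨⟨p6, p5⟩, ⟨p5', p6'⟩, ⟨p2, p1⟩, ⟨p1', p2'⟩⟩ := b2_pr
  have e2 : ((2 : ℤ) : K) = 0 := by push_cast; exact h2
  have e2' : ((-2 : ℤ) : K) = 0 := by push_cast; rw [h2, neg_zero]
  refine split_gen chevB2 hD (fun _ => ⟨ω, hc.ne0, hω1⟩) h8ord3Chk_B2 h ?_ ?_ ?_
  · intro r hr
    exact ⟨h8ucM2 chevB2 r, ω, hc.ne0, hpow _ (b2_m2 r hr)⟩
  · intro γ δ hγ hδ hγδ
    exact h8pairChk2_spec hP hL hWS hN2 hsc h ω 3 hc [1, -1] h8eps_one [] b2_pair3 γ δ hγ hδ hγδ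
  · intro r hr a b x y hx hy
    have hr8 : r < 8 := hr
    interval_cases r
    · -- long root 0: configuration (0; 1, 4; 2)
      refine h8uc_self_comm_cfg h 0 1 4 2 _ _
        (rel_two hS 1 4 2 0 1 1 1 1 2 1 (by decide) (by decide) (by decide) (by decide) c14)
        ?_ (hok 0 1 (by decide) (by decide) k01) (hok 0 4 (by decide) (by decide) k04)
        (hok 0 2 (by decide) (by decide) k02) a b x y hx hy
      intro v
      exact ⟨1, v, by push_cast; ring⟩
    · -- short root 1: configuration (1; 2, 3; 0)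
      refine self_comm_cfg1 h 1 2 3 0 _ _
        (rel_two hS 2 3 1 0 1 (-1) 1 1 2 1 (by decide) (by decide) (by decide) (by decide) c23)
        ?_ (horth 1 2 0 2 [2, 1] (by decide) (by decide) (by decide) (by decide) (by decide) o12 e2
          (by rw [p1']; decide) (by rw [p2']; decide))
        (hok 1 3 (by decide) (by decide) k13) (hok 1 0 (by decide) (by decide) k10)
        a b x y hx hy
      intro v
      exact ⟨-v, 1, by push_cast; ring⟩
    · -- short root 2: configuration (2; 1, 4; 0)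
      refine self_comm_cfg1 h 2 1 4 0 _ _
        (rel_two hS 1 4 2 0 1 1 1 1 2 1 (by decide) (by decide) (by decide) (by decide) c14)
        ?_ (horth 2 1 0 (-2) [1, 0] (by decide) (by decide) (by decide) (by decide) (by decide) o21
          e2' (by rw [p2]; decide) (by rw [p1]; decide))
        (hok 2 4 (by decide) (by decide) k24) (hok 2 0 (by decide) (by decide) k20)
        a b x y hx hy
      intro v
      exact ⟨-v, 1, by push_cast; ring⟩
    · -- long root 3: configuration (3; 0, 5; 1)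
      refine h8uc_self_comm_cfg h 3 0 5 1 _ _
        (rel_two hS 0 5 1 3 1 (-1) 1 1 1 2 (by decide) (by decide) (by decide) (by decide) c05)
        ?_ (hok 3 0 (by decide) (by decide) k30) (hok 3 5 (by decide) (by decide) k35)
        (hok 3 1 (by decide) (by decide) k31) a b x y hx hy
      intro v
      exact ⟨v, 1, by push_cast; ring⟩
    · -- long root 4: configuration (4; 2, 7; 6)
      refine h8uc_self_comm_cfg h 4 2 7 6 _ _
        (rel_two hS 2 7 6 4 1 (-1) 1 1 2 1 (by decide) (by decide) (by decide) (by decide) c27)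
        ?_ (hok 4 2 (by decide) (by decide) k42) (hok 4 7 (by decide) (by decide) k47)
        (hok 4 6 (by decide) (by decide) k46) a b x y hx hy
      intro v
      exact ⟨1, -v, by push_cast; ring⟩
    · -- short root 5: configuration (5; 6, 3; 7)
      refine self_comm_cfg1 h 5 6 3 7 _ _
        (rel_two hS 6 3 5 7 (-1) 1 1 1 2 1 (by decide) (by decide) (by decide) (by decide) c63)
        ?_ (horth 5 6 7 2 [1, 0] (by decide) (by decide) (by decide) (by decide) (by decide) o56 e2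
          (by rw [p5']; decide) (by rw [p6']; decide))
        (hok 5 3 (by decide) (by decide) k53) (hok 5 7 (by decide) (by decide) k57)
        a b x y hx hy
      intro v
      exact ⟨v, 1, by push_cast; ring⟩
    · -- short root 6: configuration (6; 5, 4; 7)
      refine self_comm_cfg1 h 6 5 4 7 _ _
        (rel_two hS 5 4 6 7 (-1) (-1) 1 1 2 1 (by decide) (by decide) (by decide) (by decide) c54)
        ?_ (horth 6 5 7 (-2) [2, 1] (by decide) (by decide) (by decide) (by decide) (by decide) o65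
          e2' (by rw [p6]; decide) (by rw [p5]; decide))
        (hok 6 4 (by decide) (by decide) k64) (hok 6 7 (by decide) (by decide) k67)
        a b x y hx hy
      intro v
      exact ⟨v, 1, by push_cast; ring⟩
    · -- long root 7: configuration (7; 5, 4; 6)
      refine h8uc_self_comm_cfg h 7 5 4 6 _ _
        (rel_two hS 5 4 6 7 (-1) (-1) 1 1 2 1 (by decide) (by decide) (by decide) (by decide) c54)
        ?_ (hok 7 5 (by decide) (by decide) k75) (hok 7 4 (by decide) (by decide) k74)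
        (hok 7 6 (by decide) (by decide) k76) a b x y hx hy
      intro v
      exact ⟨1, -v, by push_cast; ring⟩

end Cfsg.Agent.Lib.helper7.Sg
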