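import Mathlib
import Cfsg.Prelude.Def_SteinbergCover
import Cfsg.Prelude.Def_ChevD4
import Cfsg.Agent.Lib.helper7.CeE
import Cfsg.Agent.Lib.helper8.ChevUC24
import Cfsg.Agent.Lib.helper8.ChevSt36

set_option autoImplicit false
set_option linter.unusedSectionVars false

/-!
Type `D₄` over the field with three elements: lifts of root elements for two orthogonal roots
commute in every central extension of the presented cover.  The two roots are put into a
subsystem of type `A₃`, to which the argument for `SL₄(3)` applies.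
-/

namespace Cfsg.Agent.Lib.helper7.Sg

open Cfsg.Lie Cfsg.Lie.ChevalleyDatum Cfsg.Agent.Lib.helper8
open Cfsg.Agent.Lib.helper15.St2 Cfsg.Agent.Lib.helper7.St Cfsg.Agent.Lib.helper7.Ce

universe u w

/-- An embedding of the root system `A₃ = {e_i - e_j}` into the roots of `chevD4`, with signs
making all the structure constants equal to one. -/
structure A3Emb (ix : Fin 4 → Fin 4 → ℕ) (sg : Fin 4 → Fin 4 → ℤ) : Prop where
  lt : ∀ i j, i ≠ j → ix i j < chevD4.nroots
  neg : ∀ i j, i ≠ j → ix j i = chevD4.negIdx.getD (ix i j) 0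
  sgs : ∀ i j, i ≠ j → sg i j = sg j i
  sg1 : ∀ i j, i ≠ j → sg i j = 1 ∨ sg i j = -1
  comm : ∀ i j k l, i ≠ j → k ≠ l → i ≠ l → j ≠ k → (i = k ∧ j = l) ∨
    (ix k l ≠ ix i j ∧ ix k l ≠ chevD4.negIdx.getD (ix i j) 0 ∧
      chevD4.commTerms (ix i j) (ix k l) = [])
  comm3 : ∀ i j l, i ≠ j → j ≠ l → i ≠ l → ix j l ≠ ix i j ∧
    ix j l ≠ chevD4.negIdx.getD (ix i j) 0 ∧
    ∃ N ∈ ([1, -1] : List ℤ), chevD4.commTerms (ix i j) (ix j l) = [(ix i l, N, 1, 1)] ∧
      sg i l = N * sg i j * sg j l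
  row : ∀ i j l, i ≠ j → i ≠ l → j ≠ l → h8commOK chevD4 2 (ix i j) (ix i l) = true
  col : ∀ i j l, i ≠ l → j ≠ l → i ≠ j → h8commOK chevD4 2 (ix i l) (ix j l) = true

/-- the condition on the one-term commutator formulas -/
def A3C3 (ix : Fin 4 → Fin 4 → ℕ) (sg : Fin 4 → Fin 4 → ℤ) : Prop :=
  ∀ i j l, i ≠ j → j ≠ l → i ≠ l → ix j l ≠ ix i j ∧
    ix j l ≠ chevD4.negIdx.getD (ix i j) 0 ∧
    ∃ N ∈ ([1, -1] : List ℤ), chevD4.commTerms (ix i j) (ix j l) = [(ix i l, N, 1, 1)] ∧
      sg i l = N * sg i j * sg j l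

instance (ix : Fin 4 → Fin 4 → ℕ) (sg : Fin 4 → Fin 4 → ℤ) : Decidable (A3C3 ix sg) := by
  unfold A3C3; infer_instance

/-- the decidable form of `A3Emb` -/
def a3Chk (ix : Fin 4 → Fin 4 → ℕ) (sg : Fin 4 → Fin 4 → ℤ) : Bool :=
  decide (∀ i j, i ≠ j → ix i j < chevD4.nroots) &&
  decide (∀ i j, i ≠ j → ix j i = chevD4.negIdx.getD (ix i j) 0) &&
  decide (∀ i j, i ≠ j → sg i j = sg j i) &&
  decide (∀ i j, i ≠ j → sg i j = 1 ∨ sg i j = -1) &&
  decide (∀ i j k l, i ≠ j → k ≠ l → i ≠ l → j ≠ k → (i = k ∧ j = l) ∨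
      (ix k l ≠ ix i j ∧ ix k l ≠ chevD4.negIdx.getD (ix i j) 0 ∧
        chevD4.commTerms (ix i j) (ix k l) = [])) &&
  decide (A3C3 ix sg) &&
  decide (∀ i j l, i ≠ j → i ≠ l → j ≠ l → h8commOK chevD4 2 (ix i j) (ix i l) = true) &&
  decide (∀ i j l, i ≠ l → j ≠ l → i ≠ j → h8commOK chevD4 2 (ix i l) (ix j l) = true)

theorem a3Emb_of_chk {ix : Fin 4 → Fin 4 → ℕ} {sg : Fin 4 → Fin 4 → ℤ}
    (h : a3Chk ix sg = true) : A3Emb ix sg := by
  unfold a3Chk at h
  simp only [Bool.and_eq_true, decide_eq_true_eq] at h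
  obtain ⟨⟨⟨⟨⟨⟨⟨h1, h2⟩, h3⟩, h4⟩, h5⟩, h6⟩, h7⟩, h8⟩ := h
  exact ⟨h1, h2, h3, h4, h5, h6, h7, h8⟩

variable {K : Type u} [Field K] {E : Type w} [Group E]

section sys

variable {ix : Fin 4 → Fin 4 → ℕ} {sg : Fin 4 → Fin 4 → ℤ} (hE : A3Emb ix sg)
include hE

lemma A3Emb.sq (i j : Fin 4) (hij : i ≠ j) : ((sg i j : ℤ) : K) * (sg i j : K) = 1 := by
  rcases hE.sg1 i j hij with h | h <;> rw [h] <;> simp

/-- two commuting root subgroups of the cover -/
lemma A3Emb.xcomm {i j k l : Fin 4} (hij : i ≠ j) (hkl : k ≠ l) (hil : i ≠ l) (hjk : j ≠ k)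
    (t u : K) : chevD4.scGen K (ix i j) t * chevD4.scGen K (ix k l) u =
      chevD4.scGen K (ix k l) u * chevD4.scGen K (ix i j) t := by
  have hS := h8sc_sys (K := K) chevD4
  rcases hE.comm i j k l hij hkl hil hjk with ⟨rfl, rfl⟩ | ⟨h1, h2, hct⟩
  · rw [hS.add _ (hE.lt i j hij), hS.add _ (hE.lt i j hij), add_comm]
  · have := hS.comm (ix i j) (hE.lt i j hij) (ix k l) (hE.lt k l hkl) h1 h2 t u
    unfold ChevalleyDatum.commWord at this
    rw [hct, List.map_nil, h8wX_nil, mul_one] at this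
    exact this.symm

end sys

lemma aux_c3 {G : Type*} [Group G] (A B Z : G) (h : B * A = A * B * Z) (hA : Z * A = A * Z)
    (hB : Z * B = B * Z) : A * B * A⁻¹ * B⁻¹ = Z⁻¹ := by
  have hBi : B * Z⁻¹ = Z⁻¹ * B := by
    rw [eq_inv_mul_iff_mul_eq, ← mul_assoc, hB, mul_inv_cancel_right]
  have hAi : A * Z⁻¹ = Z⁻¹ * A := by
    rw [eq_inv_mul_iff_mul_eq, ← mul_assoc, hA, mul_inv_cancel_right]
  calc A * B * A⁻¹ * B⁻¹ = A * B * (B * A)⁻¹ := by group
    _ = A * B * (A * B * Z)⁻¹ := by rw [h]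
    _ = A * (B * Z⁻¹) * B⁻¹ * A⁻¹ := by group
    _ = A * (Z⁻¹ * B) * B⁻¹ * A⁻¹ := by rw [hBi]
    _ = (A * Z⁻¹) * A⁻¹ := by group
    _ = Z⁻¹ * A * A⁻¹ := by rw [hAi]
    _ = Z⁻¹ := by group

/-- the Steinberg system of type `A₃` inside the cover of type `D₄` -/
noncomputable def a3Sys [Finite K] {ix : Fin 4 → Fin 4 → ℕ} {sg : Fin 4 → Fin 4 → ℤ}
    (hE : A3Emb ix sg) : Sys K (Fin 4) (chevD4.SteinbergCover K) where
  x i j t := if i = j then 1 else chevD4.scGen K (ix i j) ((sg i j : K) * t)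
  diag i t := by rw [if_pos rfl]
  add i j hij t u := by
    rw [if_neg hij, if_neg hij, if_neg hij, (h8sc_sys (K := K) chevD4).add _ (hE.lt i j hij),
      mul_add]
  comm i j k l hij hkl hil hjk t u := by
    rw [if_neg hij, if_neg hkl]
    exact hE.xcomm hij hkl hil hjk _ _
  comm3 i j l hij hjl hil t u := by
    rw [if_neg hij, if_neg hjl, if_neg hil]
    have hS := h8sc_sys (K := K) chevD4
    obtain ⟨h1, h2, N, hN, hct, hsg⟩ := hE.comm3 i j l hij hjl hil
    have hrel := hS.comm (ix i j) (hE.lt i j hij) (ix j l) (hE.lt j l hjl) h1 h2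
      ((sg i j : K) * t) ((sg j l : K) * u)
    unfold ChevalleyDatum.commWord at hrel
    rw [hct] at hrel
    simp only [List.map_cons, List.map_nil, h8wX_cons, h8wX_nil, mul_one, pow_one] at hrel
    -- the commutator term commutes with the two factors
    have c1 := hE.xcomm (K := K) (i := i) (j := l) (k := i) (l := j) hil hij hij (Ne.symm hil)
    have c2 := hE.xcomm (K := K) (i := i) (j := l) (k := j) (l := l) hil hjl hil (Ne.symm hjl)
    set A := chevD4.scGen K (ix i j) ((sg i j : K) * t) with hA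
    set B := chevD4.scGen K (ix j l) ((sg j l : K) * u) with hB
    set Z := chevD4.scGen K (ix i l) ((N : K) * -((sg i j : K) * t) * ((sg j l : K) * u))
      with hZ
    have hZA : Z * A = A * Z := c1 _ _
    have hZB : Z * B = B * Z := c2 _ _
    have e1 : A * B * A⁻¹ * B⁻¹ = Z⁻¹ := aux_c3 A B Z hrel hZA hZB
    rw [e1, hZ, h8sys_inv hS _ (hE.lt i l hil)]
    congr 1
    have : ((sg i l : ℤ) : K) = (N : K) * (sg i j : K) * (sg j l : K) := by
      rw [hsg]; push_cast; ring
    rw [this]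
    ring
  rel i j hij t u ht := by
    simp only [if_neg hij, if_neg (Ne.symm hij)]
    have hD : chevD4 ∈ [chevG2, chevB2, chevD4, chevF4, chevE6, chevE7, chevE8] := by simp
    have hB := h8base_all.{u} chevD4 hD
    have hC := h8commAll.{u} chevD4 hD
    have hL := h8all_all chevD4 hD
    have hWS := h8w0s_all chevD4 hD
    have hN2 := h8n2_all chevD4 hD
    have hA := h8reflAll chevD4 hD
    have hsc := h8scChk_all chevD4 hD
    have hc2 := h8cartan_simple chevD4 hD
    obtain ⟨dep, par, horb⟩ := h8orb_chk_all chevD4 hD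
    have hP := h8sc_pair (K := K) chevD4 hB hC
    have key := h8pair_conj_all hP hL hWS hN2
      (h8slHom_all (F := K) chevD4 hB hA hsc hc2 dep par horb) dep par horb (ix i j)
      (hE.lt i j hij) ((sg i j : K) * t) ((sg i j : K) * u)
      (mul_ne_zero (fun h0 => by
        have := hE.sq (K := K) i j hij
        rw [h0, zero_mul] at this
        exact zero_ne_one this) ht)
    unfold h8nS at key
    unfold cj
    rw [hE.neg i j hij, ← hE.sgs i j hij]
    have hs := hE.sq (K := K) i j hij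
    have hεinv : (((sg i j : ℤ) : K))⁻¹ = (sg i j : K) := inv_eq_of_mul_eq_one_right hs
    have hinv : ((sg i j : ℤ) : K) * -t⁻¹ = -((sg i j : K) * t)⁻¹ := by
      rw [mul_inv, hεinv]; ring
    rw [hinv, key]
    congr 1
    rw [mul_inv, hεinv]
    linear_combination (-((sg i j : K) * t⁻¹ ^ 2 * u)) * hs

section main

variable [Fintype K]

lemma card3_facts (h3 : Fintype.card K = 3) :
    (∀ t : K, t = 0 ∨ t = 1 ∨ t = -1) ∧ (1 : K) + 1 + 1 = 0 := by
  classical
  have h30 : (1 : K) + 1 + 1 = 0 := by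
    have := Nat.cast_card_eq_zero K
    rw [h3] at this
    rw [← this]
    norm_num
  refine ⟨?_, h30⟩
  have h1 : (1 : K) ≠ -1 := by
    intro hcon
    have h2 : (1 : K) + 1 = 0 := by
      nth_rewrite 2 [hcon]
      rw [add_neg_cancel]
    rw [h2, zero_add] at h30
    exact one_ne_zero h30
  have hcard : ({0, 1, -1} : Finset K).card = 3 := by
    rw [Finset.card_insert_of_notMem, Finset.card_insert_of_notMem, Finset.card_singleton]
    · simpa using h1
    · simp only [Finset.mem_insert, Finset.mem_singleton, not_or]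
      exact ⟨zero_ne_one, by
        intro hcon
        have := neg_eq_zero.1 hcon.symm
        exact one_ne_zero this⟩
  have huniv : ({0, 1, -1} : Finset K) = Finset.univ := by
    apply Finset.eq_univ_of_card
    rw [hcard, h3]
  intro t
  have ht : t ∈ ({0, 1, -1} : Finset K) := by rw [huniv]; exact Finset.mem_univ t
  simpa using ht

/-- Over the field with three elements, lifts of root elements of the cover of type `D₄` for two
roots which are disjoint roots of an embedded subsystem of type `A₃` commute. -/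
theorem a3_orth (h3 : Fintype.card K = 3) {ρ : E →* chevD4.SteinbergCover K} (h : H8CE ρ)
    (ix : Fin 4 → Fin 4 → ℕ) (sg : Fin 4 → Fin 4 → ℤ) (hchk : a3Chk ix sg = true)
    (i j k l : Fin 4) (hij : i ≠ j) (hik : i ≠ k) (hil : i ≠ l) (hjk : j ≠ k) (hjl : j ≠ l)
    (hkl : k ≠ l) (a b : K) (x y : E)
    (hx : ρ x = chevD4.scGen K (ix i j) a) (hy : ρ y = chevD4.scGen K (ix k l) b) :
    x * y = y * x := by
  have hE := a3Emb_of_chk hchk
  have hD : chevD4 ∈ [chevG2, chevB2, chevD4, chevF4, chevE6, chevE7, chevE8] := by simp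
  have hB := h8base_all.{u} chevD4 hD
  have hC := h8commAll.{u} chevD4 hD
  have hL := h8all_all chevD4 hD
  have hWS := h8w0s_all chevD4 hD
  have hN2 := h8n2_all chevD4 hD
  have hsc := h8scChk_all chevD4 hD
  have hP := h8sc_pair (K := K) chevD4 hB hC
  have hord := h8card3_ord h3
  obtain ⟨hK1, hK3⟩ := card3_facts h3
  have hce : IsCE ρ :=
    ⟨h.surj, fun z hz => Subgroup.mem_center_iff.mpr (fun g => (h.central z hz g).symm)⟩
  have hx' : ∀ (i j : Fin 4), i ≠ j → ∀ s : K,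
      (a3Sys (K := K) hE).x i j s = chevD4.scGen K (ix i j) ((sg i j : K) * s) := by
    intro i j hij s
    show (if i = j then 1 else chevD4.scGen K (ix i j) ((sg i j : K) * s)) = _
    rw [if_neg hij]
  have h1 : H1 (a3Sys (K := K) hE) ρ := by
    refine ⟨?_, ?_, ?_⟩
    · intro i j hij s t a b ha hb
      rw [hx' i j hij] at ha hb
      exact h8uc_self_card3 h (h8sc_sys chevD4) (ix i j) (hE.lt i j hij) (h8card3_cases h3)
        _ _ a b ha hb
    · intro i j l hij hil hjl s t a b ha hb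
      rw [hx' i j hij] at ha
      rw [hx' i l hil] at hb
      exact h8uc_commOK_spec hP hL hWS hN2 hsc h (-1) 2 hord (ix i j) (ix i l) (hE.lt i j hij)
        (hE.lt i l hil) (hE.row i j l hij hil hjl) _ _ a b ha hb
    · intro i j l hil hjl hij s t a b ha hb
      rw [hx' i l hil] at ha
      rw [hx' j l hjl] at hb
      exact h8uc_commOK_spec hP hL hWS hN2 hsc h (-1) 2 hord (ix i l) (ix j l) (hE.lt i l hil)
        (hE.lt j l hjl) (hE.col i j l hil hjl hij) _ _ a b ha hb
  have hd := Hdis_three hK1 hK3 hce h1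
  refine hd i j k l hij hik hil hjk hjl hkl ((sg i j : K) * a) ((sg k l : K) * b) x y ?_ ?_
  · rw [hx' i j hij, ← mul_assoc, hE.sq i j hij, one_mul, hx]
  · rw [hx' k l hkl, ← mul_assoc, hE.sq k l hkl, one_mul, hy]

end main

end Cfsg.Agent.Lib.helper7.Sg
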