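import Mathlib
import Cfsg.Prelude.Def_SteinbergCover
import Cfsg.Prelude.Def_ChevD4
import Cfsg.Agent.Lib.helper7.Sg.D43a
import Cfsg.Agent.Lib.helper7.Sg.Gen

set_option autoImplicit false
set_option linter.unusedSectionVars false

/-!
Every central extension of the Steinberg cover of type `D₄` over the field with three elements
splits (generated data: nine embeddings of `A₃` covering the eighteen pairs of orthogonal positive
roots).
-/

namespace Cfsg.Agent.Lib.helper7.Sg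

open Cfsg.Lie Cfsg.Lie.ChevalleyDatum Cfsg.Agent.Lib.helper8

universe u w

variable {K : Type u} [Field K] [Fintype K] {E : Type w} [Group E]

/-- embedding 0: root indices -/
def d4e0ix : Fin 4 → Fin 4 → ℕ := ![![0, 0, 1, 2], ![23, 0, 14, 15], ![22, 9, 0, 12], ![21, 8, 11, 0]]
/-- embedding 0: signs -/
def d4e0sg : Fin 4 → Fin 4 → ℤ := ![![1, 1, 1, 1], ![1, 1, 1, -1], ![1, 1, 1, 1], ![1, -1, 1, 1]]
theorem d4e0_chk : a3Chk d4e0ix d4e0sg = true := by decide +kernel

/-- embedding 1: root indices -/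
def d4e1ix : Fin 4 → Fin 4 → ℕ := ![![0, 0, 1, 3], ![23, 0, 14, 16], ![22, 9, 0, 13], ![20, 7, 10, 0]]
/-- embedding 1: signs -/
def d4e1sg : Fin 4 → Fin 4 → ℤ := ![![1, 1, 1, 1], ![1, 1, 1, -1], ![1, 1, 1, 1], ![1, -1, 1, 1]]
theorem d4e1_chk : a3Chk d4e1ix d4e1sg = true := by decide +kernel

/-- embedding 2: root indices -/
def d4e2ix : Fin 4 → Fin 4 → ℕ := ![![0, 0, 1, 6], ![23, 0, 14, 19], ![22, 9, 0, 18], ![17, 4, 5, 0]]
/-- embedding 2: signs -/
def d4e2sg : Fin 4 → Fin 4 → ℤ := ![![1, 1, 1, 1], ![1, 1, 1, -1], ![1, 1, 1, -1], ![1, -1, -1, 1]]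
theorem d4e2_chk : a3Chk d4e2ix d4e2sg = true := by decide +kernel

/-- embedding 3: root indices -/
def d4e3ix : Fin 4 → Fin 4 → ℕ := ![![0, 0, 2, 4], ![23, 0, 15, 17], ![21, 8, 0, 13], ![19, 6, 10, 0]]
/-- embedding 3: signs -/
def d4e3sg : Fin 4 → Fin 4 → ℤ := ![![1, 1, 1, 1], ![1, 1, -1, 1], ![1, -1, 1, 1], ![1, 1, 1, 1]]
theorem d4e3_chk : a3Chk d4e3ix d4e3sg = true := by decide +kernel

/-- embedding 4: root indices -/
def d4e4ix : Fin 4 → Fin 4 → ℕ := ![![0, 0, 2, 7], ![23, 0, 15, 20], ![21, 8, 0, 18], ![16, 3, 5, 0]]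
/-- embedding 4: signs -/
def d4e4sg : Fin 4 → Fin 4 → ℤ := ![![1, 1, 1, 1], ![1, 1, -1, 1], ![1, -1, 1, -1], ![1, 1, -1, 1]]
theorem d4e4_chk : a3Chk d4e4ix d4e4sg = true := by decide +kernel

/-- embedding 5: root indices -/
def d4e5ix : Fin 4 → Fin 4 → ℕ := ![![0, 0, 3, 4], ![23, 0, 16, 17], ![20, 7, 0, 12], ![19, 6, 11, 0]]
/-- embedding 5: signs -/
def d4e5sg : Fin 4 → Fin 4 → ℤ := ![![1, 1, 1, 1], ![1, 1, -1, 1], ![1, -1, 1, 1], ![1, 1, 1, 1]]
theorem d4e5_chk : a3Chk d4e5ix d4e5sg = true := by decide +kernel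

/-- embedding 6: root indices -/
def d4e6ix : Fin 4 → Fin 4 → ℕ := ![![0, 1, 2, 5], ![22, 0, 12, 17], ![21, 11, 0, 16], ![18, 6, 7, 0]]
/-- embedding 6: signs -/
def d4e6sg : Fin 4 → Fin 4 → ℤ := ![![1, 1, 1, 1], ![1, 1, 1, 1], ![1, 1, 1, 1], ![1, 1, 1, 1]]
theorem d4e6_chk : a3Chk d4e6ix d4e6sg = true := by decide +kernel

/-- embedding 7: root indices -/
def d4e7ix : Fin 4 → Fin 4 → ℕ := ![![0, 1, 2, 10], ![22, 0, 12, 20], ![21, 11, 0, 19], ![13, 3, 4, 0]]
/-- embedding 7: signs -/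
def d4e7sg : Fin 4 → Fin 4 → ℤ := ![![1, 1, 1, 1], ![1, 1, 1, -1], ![1, 1, 1, -1], ![1, -1, -1, 1]]
theorem d4e7_chk : a3Chk d4e7ix d4e7sg = true := by decide +kernel

/-- embedding 8: root indices -/
def d4e8ix : Fin 4 → Fin 4 → ℕ := ![![0, 1, 3, 5], ![22, 0, 13, 17], ![20, 10, 0, 15], ![18, 6, 8, 0]]
/-- embedding 8: signs -/
def d4e8sg : Fin 4 → Fin 4 → ℤ := ![![1, 1, 1, 1], ![1, 1, 1, 1], ![1, 1, 1, 1], ![1, 1, 1, 1]]
theorem d4e8_chk : a3Chk d4e8ix d4e8sg = true := by decide +kernel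

/-- the pairs of orthogonal positive roots -/
def d4Orth : List (ℕ × ℕ) :=
  [(12, 13), (12, 18), (12, 23), (13, 18), (13, 23), (14, 17), (14, 20), (14, 21), (15, 16), (15, 19), (15, 22), (16, 19), (16, 22), (17, 20), (17, 21), (18, 23), (19, 22), (20, 21)]

theorem d4_orth_chk : ((List.range 24).all fun γ => (List.range 24).all fun δ =>
    !(decide (12 ≤ γ) && decide (γ < δ)) || h8modGood chevD4 2 γ δ ||
      decide ((γ, δ) ∈ d4Orth)) = true := by decide +kernel

theorem d4_orth_or (γ : ℕ) (hγ : γ < 24) (δ : ℕ) (hδ : δ < 24) (h12 : 12 ≤ γ) (hγδ : γ < δ) :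
    h8modGood chevD4 2 γ δ = true ∨ (γ, δ) ∈ d4Orth := by
  have h := d4_orth_chk
  rw [List.all_eq_true] at h
  have h1 := h γ (List.mem_range.mpr hγ)
  rw [List.all_eq_true] at h1
  have h2 := h1 δ (List.mem_range.mpr hδ)
  simp only [Bool.or_eq_true, Bool.not_eq_true', Bool.and_eq_false_iff, decide_eq_false_iff_not,
    decide_eq_true_eq] at h2
  rcases h2 with (h3 | h3) | h3
  · rcases h3 with h4 | h4
    · exact absurd h12 h4
    · exact absurd hγδ h4
  · exact Or.inl h3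
  · exact Or.inr h3

/-- Steinberg's theorem for type `D₄` over the field with three elements -/
theorem split_D4_3 (h3 : Fintype.card K = 3) {ρ : E →* chevD4.SteinbergCover K} (h : H8CE ρ) :
    ∃ τ : chevD4.SteinbergCover K →* E, ρ.comp τ = MonoidHom.id _ := by
  have hD : chevD4 ∈ [chevG2, chevB2, chevD4, chevF4, chevE6, chevE7, chevE8] := by simp
  have hB := h8base_all.{u} chevD4 hD
  have hL := h8all_all chevD4 hD
  have hc := h8card3_ord (K := K) h3
  have hne : (-1 : K) ≠ 1 := by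
    intro h1
    have := (hc.iff 1).mp (by rw [zpow_one]; exact h1)
    norm_num at this
  refine split_gen chevD4 hD (fun _ => ⟨-1, hc.ne0, hne⟩) h8ord3Chk_D4 h ?_ ?_ ?_
  · intro r hr
    refine ⟨h8ucM chevD4 r, -1, hc.ne0, ?_⟩
    rw [h8ucM_spec chevD4 h8ucMChk_D4 r hr, zpow_one]
    exact hne
  · intro γ δ hγ hδ hγδ
    have hγ12 : 12 ≤ γ := (h8isPos_iff hB hL γ hγ.1).mp hγ
    rcases d4_orth_or γ hγ.1 δ hδ.1 hγ12 hγδ with hg | hmem
    · left
      unfold h8modGood at hg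
      rw [Bool.and_eq_true, decide_eq_true_eq, Bool.not_eq_true', decide_eq_false_iff_not] at hg
      rw [← h8pr_eq, ← h8pr_eq] at hg
      exact ⟨h8modFind chevD4 2 γ δ, -1, hc.ne0, (hc.iff _).mpr hg.1,
        fun h1 => hg.2 ((hc.iff _).mp h1)⟩
    · right
      unfold d4Orth at hmem
      simp only [List.mem_cons, Prod.mk.injEq, List.not_mem_nil, or_false] at hmem
      rcases hmem with ⟨rfl, rfl⟩ | ⟨rfl, rfl⟩ | ⟨rfl, rfl⟩ | ⟨rfl, rfl⟩ | ⟨rfl, rfl⟩ | ⟨rfl, rfl⟩ | ⟨rfl, rfl⟩ | ⟨rfl, rfl⟩ | ⟨rfl, rfl⟩ | ⟨rfl, rfl⟩ | ⟨rfl, rfl⟩ | ⟨rfl, rfl⟩ | ⟨rfl, rfl⟩ | ⟨rfl, rfl⟩ | ⟨rfl, rfl⟩ | ⟨rfl, rfl⟩ | ⟨rfl, rfl⟩ | ⟨rfl, rfl⟩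
      · exact ⟨by decide, fun a b x y hx hy => a3_orth h3 h d4e7ix d4e7sg d4e7_chk 1 2 3 0
          (by decide) (by decide) (by decide) (by decide) (by decide) (by decide) a b x y hx hy⟩
      · exact ⟨by decide, fun a b x y hx hy => a3_orth h3 h d4e6ix d4e6sg d4e6_chk 1 2 3 0
          (by decide) (by decide) (by decide) (by decide) (by decide) (by decide) a b x y hx hy⟩
      · exact ⟨by decide, fun a b x y hx hy => a3_orth h3 h d4e0ix d4e0sg d4e0_chk 2 3 1 0
          (by decide) (by decide) (by decide) (by decide) (by decide) (by decide) a b x y hx hy⟩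
      · exact ⟨by decide, fun a b x y hx hy => a3_orth h3 h d4e8ix d4e8sg d4e8_chk 1 2 3 0
          (by decide) (by decide) (by decide) (by decide) (by decide) (by decide) a b x y hx hy⟩
      · exact ⟨by decide, fun a b x y hx hy => a3_orth h3 h d4e1ix d4e1sg d4e1_chk 2 3 1 0
          (by decide) (by decide) (by decide) (by decide) (by decide) (by decide) a b x y hx hy⟩
      · exact ⟨by decide, fun a b x y hx hy => a3_orth h3 h d4e2ix d4e2sg d4e2_chk 1 2 3 0
          (by decide) (by decide) (by decide) (by decide) (by decide) (by decide) a b x y hx hy⟩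
      · exact ⟨by decide, fun a b x y hx hy => a3_orth h3 h d4e1ix d4e1sg d4e1_chk 1 2 3 0
          (by decide) (by decide) (by decide) (by decide) (by decide) (by decide) a b x y hx hy⟩
      · exact ⟨by decide, fun a b x y hx hy => a3_orth h3 h d4e0ix d4e0sg d4e0_chk 1 2 3 0
          (by decide) (by decide) (by decide) (by decide) (by decide) (by decide) a b x y hx hy⟩
      · exact ⟨by decide, fun a b x y hx hy => a3_orth h3 h d4e4ix d4e4sg d4e4_chk 1 2 3 0
          (by decide) (by decide) (by decide) (by decide) (by decide) (by decide) a b x y hx hy⟩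
      · exact ⟨by decide, fun a b x y hx hy => a3_orth h3 h d4e3ix d4e3sg d4e3_chk 1 2 3 0
          (by decide) (by decide) (by decide) (by decide) (by decide) (by decide) a b x y hx hy⟩
      · exact ⟨by decide, fun a b x y hx hy => a3_orth h3 h d4e0ix d4e0sg d4e0_chk 1 3 2 0
          (by decide) (by decide) (by decide) (by decide) (by decide) (by decide) a b x y hx hy⟩
      · exact ⟨by decide, fun a b x y hx hy => a3_orth h3 h d4e5ix d4e5sg d4e5_chk 1 2 3 0
          (by decide) (by decide) (by decide) (by decide) (by decide) (by decide) a b x y hx hy⟩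
      · exact ⟨by decide, fun a b x y hx hy => a3_orth h3 h d4e1ix d4e1sg d4e1_chk 1 3 2 0
          (by decide) (by decide) (by decide) (by decide) (by decide) (by decide) a b x y hx hy⟩
      · exact ⟨by decide, fun a b x y hx hy => a3_orth h3 h d4e5ix d4e5sg d4e5_chk 1 3 2 0
          (by decide) (by decide) (by decide) (by decide) (by decide) (by decide) a b x y hx hy⟩
      · exact ⟨by decide, fun a b x y hx hy => a3_orth h3 h d4e3ix d4e3sg d4e3_chk 1 3 2 0
          (by decide) (by decide) (by decide) (by decide) (by decide) (by decide) a b x y hx hy⟩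
      · exact ⟨by decide, fun a b x y hx hy => a3_orth h3 h d4e2ix d4e2sg d4e2_chk 2 3 1 0
          (by decide) (by decide) (by decide) (by decide) (by decide) (by decide) a b x y hx hy⟩
      · exact ⟨by decide, fun a b x y hx hy => a3_orth h3 h d4e2ix d4e2sg d4e2_chk 1 3 2 0
          (by decide) (by decide) (by decide) (by decide) (by decide) (by decide) a b x y hx hy⟩
      · exact ⟨by decide, fun a b x y hx hy => a3_orth h3 h d4e4ix d4e4sg d4e4_chk 1 3 2 0
          (by decide) (by decide) (by decide) (by decide) (by decide) (by decide) a b x y hx hy⟩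
  · intro r hr a b x y hx hy
    exact h8uc_self_card3 h (h8sc_sys chevD4) r hr (h8card3_cases h3) a b x y hx hy

end Cfsg.Agent.Lib.helper7.Sg
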