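import Mathlib
import Cfsg.Prelude.Def_SteinbergCover
import Cfsg.Prelude.Def_ChevD4
import Cfsg.Agent.Lib.helper8.ChevUC24

set_option autoImplicit false
set_option linter.unusedSectionVars false

/-!
Every central extension of the Steinberg cover of type `D₄` over the field with four elements
splits.
-/

namespace Cfsg.Agent.Lib.helper7.Sg

open Cfsg.Lie Cfsg.Lie.ChevalleyDatum Cfsg.Agent.Lib.helper8

universe u w

variable {K : Type u} [Field K] [Fintype K] {E : Type w} [Group E]

/-- the configurations for the commutation inside the root subgroups of `D₄`, modulo three -/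
def d4Self3 : List (ℕ × ℕ) :=
  [(1, 9), (0, 14), (0, 15), (0, 16), (0, 17), (1, 17), (0, 19), (0, 20), (0, 21), (0, 22),
    (1, 20), (1, 21), (2, 22), (3, 22), (1, 23), (2, 23), (3, 23), (4, 23), (6, 22), (6, 23),
    (7, 23), (8, 23), (9, 23), (14, 22)]

theorem d4_self3 : h8selfChk chevD4 3 [1, -1] d4Self3 = true := by decide +kernel

theorem d4_pair3 : h8pairChk2 chevD4 3 [1, -1] [] = true := by decide +kernel

/-- Steinberg's theorem for type `D₄` over the field with four elements -/
theorem split_D4_4 (h4 : Fintype.card K = 4) {ρ : E →* chevD4.SteinbergCover K} (h : H8CE ρ) :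
    ∃ τ : chevD4.SteinbergCover K →* E, ρ.comp τ = MonoidHom.id _ := by
  have hD : chevD4 ∈ [chevG2, chevB2, chevD4, chevF4, chevE6, chevE7, chevE8] := by simp
  obtain ⟨ω, hc⟩ := h8card4_ord h4
  have hB := h8base_all.{u} chevD4 hD
  have hC := h8commAll.{u} chevD4 hD
  refine h8uc_split_mod chevD4 hD (fun _ => ⟨ω, hc.ne0, ?_⟩) ω 3 (by norm_num) hc [1, -1]
    h8eps_one h8ord3Chk_D4 h8ucMChk_D4 [] d4_pair3 h ?_
  · intro h1
    have := (hc.iff 1).mp (by rw [zpow_one]; exact h1)
    norm_num at this
  · intro r hr a b x y hx hy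
    exact h8selfChk_spec (h8sc_pair (K := K) chevD4 hB hC) (h8all_all chevD4 hD)
      (h8w0s_all chevD4 hD) (h8n2_all chevD4 hD) (h8scChk_all chevD4 hD) h ω 3 hc [1, -1]
      h8eps_one d4Self3 d4_self3 r hr a b x y hx hy

end Cfsg.Agent.Lib.helper7.Sg
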