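import Mathlib
import Cfsg.Prelude.Def_KGroupFacts
import Cfsg.Agent.Lib.helper7.Sg.Fin
import Cfsg.Agent.Lib.helper7.Sg.B23f
import Cfsg.Agent.Lib.helper7.Sg.D44
import Cfsg.Agent.Lib.helper7.SlG
import Cfsg.Agent.Lib.helper7.SlE6b
import Cfsg.Agent.Lib.helper7.SlE7b
import Cfsg.Agent.Lib.helper8.ChevUC13
import Cfsg.Agent.Lib.helper8.ChevUC19

set_option autoImplicit false
set_option linter.unusedSectionVars false

/-!
The Schur multiplier of the Steinberg group: assembly of the cases.
-/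

namespace Cfsg.Agent.Lib.helper7.Sg

open Cfsg.Lie Cfsg.Lie.ChevalleyDatum Cfsg.Agent.Lib.helper8

universe u

variable {K : Type u} [Field K] [Fintype K]

/-- the Schur multiplier of the Steinberg group is trivial as soon as every central extension of
the presented cover splits -/
theorem schur_of_split (D : ChevalleyDatum)
    (hD : D ∈ [chevG2, chevB2, chevD4, chevF4, chevE6, chevE7, chevE8])
    (hsplit : ∀ (Γ : Type u) [Group Γ] (ρ : Γ →* D.SteinbergCover K), H8CE ρ →
      ∃ τ : D.SteinbergCover K →* Γ, ρ.comp τ = MonoidHom.id _) :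
    Cfsg.HasCyclicSchurMultiplier (D.SteinbergGroup K) 1 := by
  haveI : Finite (D.SteinbergGroup K) := st_finite D hD
  obtain ⟨e₀, -⟩ := h8sc_iso (K := K) D hD
  exact h8schur_trivial_of_split e₀ hsplit

theorem mult_E6 : Cfsg.HasCyclicSchurMultiplier (chevE6.SteinbergGroup K) 1 := by
  have hD : chevE6 ∈ [chevG2, chevB2, chevD4, chevF4, chevE6, chevE7, chevE8] := by simp
  haveI : Finite (chevE6.SteinbergGroup K) := st_finite chevE6 hD
  obtain ⟨e₀, -⟩ := h8sc_iso (K := K) chevE6 hD
  exact Sl.mult_trivial_of_iso Sl.bridge_E6 Sl.good_E6 e₀.symm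

theorem mult_E7 : Cfsg.HasCyclicSchurMultiplier (chevE7.SteinbergGroup K) 1 := by
  have hD : chevE7 ∈ [chevG2, chevB2, chevD4, chevF4, chevE6, chevE7, chevE8] := by simp
  haveI : Finite (chevE7.SteinbergGroup K) := st_finite chevE7 hD
  obtain ⟨e₀, -⟩ := h8sc_iso (K := K) chevE7 hD
  exact Sl.mult_trivial_of_iso Sl.bridge_E7 Sl.good_E7 e₀.symm

/-- a finite field with neither two, three nor four elements has more than four -/
lemma card_cases (h2 : Fintype.card K ≠ 2) :
    Fintype.card K = 3 ∨ Fintype.card K = 4 ∨ ∃ s : Finset K, 4 < s.card := by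
  have h1 : 1 < Fintype.card K := Fintype.one_lt_card
  by_cases h3 : Fintype.card K = 3
  · exact Or.inl h3
  by_cases h4 : Fintype.card K = 4
  · exact Or.inr (Or.inl h4)
  refine Or.inr (Or.inr ⟨Finset.univ, ?_⟩)
  rw [Finset.card_univ]
  omega

/-- type `B₂`, given the case of the field with four elements -/
theorem mult_B2 (h2 : Fintype.card K ≠ 2)
    (h4 : Fintype.card K = 4 → ∀ (Γ : Type u) [Group Γ] (ρ : Γ →* chevB2.SteinbergCover K),
      H8CE ρ → ∃ τ : chevB2.SteinbergCover K →* Γ, ρ.comp τ = MonoidHom.id _) :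
    Cfsg.HasCyclicSchurMultiplier (chevB2.SteinbergGroup K) 1 := by
  have hD : chevB2 ∈ [chevG2, chevB2, chevD4, chevF4, chevE6, chevE7, chevE8] := by simp
  apply schur_of_split chevB2 hD
  intro Γ _ ρ hCE
  rcases card_cases h2 with h | h | h
  · exact split_B2_3 h hCE
  · exact h4 h Γ ρ hCE
  · exact h8uc_split_all chevB2 hD h hCE

/-- type `D₄`, given the case of the field with three elements -/
theorem mult_D4 (h2 : Fintype.card K ≠ 2)
    (h3 : Fintype.card K = 3 → ∀ (Γ : Type u) [Group Γ] (ρ : Γ →* chevD4.SteinbergCover K),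
      H8CE ρ → ∃ τ : chevD4.SteinbergCover K →* Γ, ρ.comp τ = MonoidHom.id _) :
    Cfsg.HasCyclicSchurMultiplier (chevD4.SteinbergGroup K) 1 := by
  have hD : chevD4 ∈ [chevG2, chevB2, chevD4, chevF4, chevE6, chevE7, chevE8] := by simp
  apply schur_of_split chevD4 hD
  intro Γ _ ρ hCE
  rcases card_cases h2 with h | h | h
  · exact h3 h Γ ρ hCE
  · exact split_D4_4 h hCE
  · exact h8uc_split_all chevD4 hD h hCE

end Cfsg.Agent.Lib.helper7.Sg
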